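import Cfsg.Agent.H860.Two24
import Cfsg.Agent.H134.Sq.Base_m3
import Cfsg.Agent.H827.JFi
import Cfsg.Agent.KFacts.FiTF.FixZ_m3
import Cfsg.Agent.H643.PwCnt
import Cfsg.Agent.H334.Ore.M24
import Cfsg.Agent.FastGrp
import Cfsg.Agent.Prune
set_option linter.all false

section
prune_inst 0x7f00000000000000000000000000000000000000000000000000000000000000000000000000000000000000000000000000000000000000000000000000000000000000000000000000000000000000003fffffffffffffffffffffffffffbeffbdffffffff

-- part: H854/Ore/Ext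
section
set_option linter.all false
open scoped Cfsg.Agent.FastGrp

-- part: H831/Ore/M24Two
section
/-!
# Every 2-element of `M24` is a commutator `[a, b]` with `a` of order 23 (helper831)

`a` of order 23 has no non-zero fixed vector on the Golay code modulo the all-one word, nor on the even cocode.
-/

set_option autoImplicit false

namespace Cfsg.Agent.H831.Ore

open Cfsg Cfsg.Agent.SporadicStructure.M24El Cfsg.Agent.SporadicA.GolayPerm Cfsg.Agent.Lib.F2Mat
open Cfsg.Agent.H860.Two24 Cfsg.Agent.H860.Two24Data Cfsg.Agent.SporadicA.GolayBase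

/-- the elements `a` of order 23 -/
def tA : List ℕ := [11062217551025546782733945786383684,
  924294347776970371705046738575427821,
  416135909271421895155297870865849733,
  665164728579811237774583528330187945,
  569290515599695637897617973589811956,
  57380302862175954334065655113394291,
  301709214038983397981834674545246511]

/-- the elements `b` -/
def tB : List ℕ := [984818244535754528103549039458486304,
  467841171362354931761016799640564416,
  887015815700408666268442169766392384,
  476974501233393352008190460909998656,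
  851018930437245487054724249176654368,
  314242645571671452184190628460145760,
  99061250315926660506212120833298720]

/-- the check: `r b a = a b`, `a ^ 23 = 1` and `a ≠ 1` -/
def chk (j : ℕ) : Bool :=
  force (tA.getD j idP) fun a => force (tB.getD j idP) fun b => force (pcomp a a) fun a2 =>
    force (pcomp a2 a2) fun a4 => force (pcomp a4 a4) fun a8 => force (pcomp a8 a8) fun a16 =>
    ok a && ok b && Nat.beq (pcomp (pcomp (rp.getD j idP) b) a) (pcomp a b) &&
    Nat.beq (pcomp (pcomp (pcomp a16 a4) a2) a) idP &&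
    !(Nat.beq (papp a 0) 0 && Nat.beq (papp a 1) 1)

theorem chk_all : ∀ j < 7, chk j = true := by decide +kernel

theorem moved {P : ℕ} (hP : ok P = true) (h : (!(Nat.beq (papp P 0) 0 && Nat.beq (papp P 1) 1)) = true) : el P ≠ 1 := by
  intro h1
  have key : ∀ i < 24, papp P i = i := by
    intro i hi
    have h2 := idx_el_smul hP (pt i)
    rw [h1, one_smul, idx_pt hi] at h2
    exact h2.symm
  rw [key 0 (by norm_num), key 1 (by norm_num)] at h
  exact absurd h (by decide)

theorem chk_sound {j : ℕ} (h : chk j = true) :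
    ∃ a b : M24, el (rp.getD j idP) = a * b * a⁻¹ * b⁻¹ ∧ orderOf a = 23 := by
  unfold chk at h
  simp only [force_eq, Bool.and_eq_true] at h
  obtain ⟨⟨⟨⟨ha, hb⟩, h1⟩, h2⟩, h3⟩ := h
  have hr : ok (rp.getD j idP) = true := ok_getD rp_ok j
  have ha2 := ok_pcomp ha ha
  have ha4 := ok_pcomp ha2 ha2
  have ha8 := ok_pcomp ha4 ha4
  have ha16 := ok_pcomp ha8 ha8
  have e1 := congrArg el (Nat.eq_of_beq_eq_true h1)
  rw [el_pcomp (ok_pcomp hr hb) ha, el_pcomp hr hb, el_pcomp ha hb] at e1
  have e2 := congrArg el (Nat.eq_of_beq_eq_true h2)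
  rw [el_pcomp (ok_pcomp (ok_pcomp ha16 ha4) ha2) ha, el_pcomp (ok_pcomp ha16 ha4) ha2, el_pcomp ha16 ha4,
    el_pcomp ha8 ha8, el_pcomp ha4 ha4, el_pcomp ha2 ha2, el_pcomp ha ha, el_idP] at e2
  refine ⟨el (tA.getD j idP), el (tB.getD j idP), ?_, ?_⟩
  · rw [eq_mul_inv_iff_mul_eq, eq_mul_inv_iff_mul_eq]
    exact e1
  · have : Fact (Nat.Prime 23) := ⟨by norm_num⟩
    refine orderOf_eq_prime ?_ (moved ha h3)
    rw [← e2]
    simp only [pow_succ, pow_zero, one_mul, mul_assoc]

/-- **every 2-element of `M24` is `[a, b]` with `a` of order 23** -/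
theorem two_M24 {u : M24} {n : ℕ} (hu : u ^ 2 ^ n = 1) :
    ∃ a b : M24, u = a * b * a⁻¹ * b⁻¹ ∧ orderOf a = 23 := by
  obtain ⟨c, j, hc⟩ := two_conj hu
  have key : ∃ a b : M24, el (rp.getD j idP) = a * b * a⁻¹ * b⁻¹ ∧ orderOf a = 23 := by
    by_cases hj : j < 7
    · exact chk_sound (chk_all j hj)
    · have e1 : rp.getD j idP = rp.getD 0 idP := by
        rw [List.getD_eq_default _ _ (by simpa [rp] using hj)]
        rfl
      rw [e1]
      exact chk_sound (chk_all 0 (by norm_num))
  obtain ⟨a, b, h1, h2⟩ := key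
  refine ⟨c⁻¹ * a * c, c⁻¹ * b * c, ?_, ?_⟩
  · have e1 : u = c⁻¹ * el (rp.getD j idP) * c := by rw [← hc]; group
    rw [e1, h1]; group
  · have e1 : c⁻¹ * a * c = MulAut.conj c⁻¹ a := by rw [MulAut.conj_apply, inv_inv]
    rw [e1, MulEquiv.orderOf_eq]
    exact h2

end Cfsg.Agent.H831.Ore
end

-- part: H854/Ore/Ext
section
/-!
# Groups with a subgroup `2^11 . M24` of odd index: the 2-elements are commutators and products of four involutions
(S2443, S4171) (helper854)

* `MExt A N π` : `A` elementary abelian of order `2^11`, normal in `N` and self-centralizing there, `π : N → M24` onto with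
  kernel `A`, `N` of odd index (the extension may be non-split, and the module arbitrary);
* `MExt.two_comm` : every 2-element is a commutator; `MExt.two_four` : if the elements of order `11` are products of two
  elements of square one, every 2-element is a product of four elements of square one;
* `I2.of_sylow` : for `p` dividing the order exactly once it is enough that one element of order `p` is such a product
  (in the form: is inverted by an element of square one).
-/

set_option autoImplicit false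
set_option linter.unusedSectionVars false

open Cfsg Subgroup

namespace Cfsg.Agent.H854.Ore

open Cfsg.Agent.SporadicStructure.M24El Cfsg.Agent.SporadicA.GolayPerm Cfsg.Agent.Lib.F2Mat
open Cfsg.Agent.H860.Two24 Cfsg.Agent.H860.Two24Data Cfsg.Agent.H777.Ore

/-! ### Products of two elements of order 11 in `M24` -/

/-- elements of order 11 -/
def tE1 : List ℕ := [0, 65248537048057393924360590216759477, 19044657278288076538245348389869936, 834986398999047318731830992912565666, 940234842350784212230588740868199825, 624722999985745992341897627929655524, 940234842350784212230588740868199825]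

/-- elements of order 11 -/
def tE2 : List ℕ := [0, 396341327155095033859972793321508578, 419994955345300387322775194258741552, 889655545407810462815409254353227278, 733960056892798742212007621275255012, 853700584338806206636066658151109859, 356974791860781457902180401635068079]

/-- exponents of a word of order 23 -/
def tEi : List ℕ := [0, 1, 2, 2, 1, 2, 2]

/-- exponents of a word of order 23 -/
def tEk : List ℕ := [0, 6, 3, 3, 2, 1, 1]

/-- powers of a packed permutation -/
def ppw (P : ℕ) (n : ℕ) : ℕ := Nat.rec (motive := fun _ => ℕ) idP (fun _ ih => pcomp ih P) n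

/-- the check -/
def chk11 (a b m i k : ℕ) : Bool :=
  ok a && ok b && Nat.beq (ppw a 11) idP && Nat.beq (ppw b 11) idP && Nat.beq (pcomp a b) m &&
    Nat.beq (ppw (pcomp (ppw a i) (ppw b k)) 23) idP && !(Nat.beq (pcomp (ppw a i) (ppw b k)) idP)

theorem chk11_all : ∀ j < 7, 0 < j → chk11 (tE1.getD j idP) (tE2.getD j idP) (rp.getD j idP) (tEi.getD j 0)
    (tEk.getD j 0) = true := by decide +kernel

theorem el_ppw {P : ℕ} (hP : ok P = true) (n : ℕ) : ok (ppw P n) = true ∧ el (ppw P n) = el P ^ n := by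
  induction n with
  | zero => exact ⟨ok_idP, by rw [pow_zero]; exact el_idP⟩
  | succ n ih =>
    obtain ⟨h1, h2⟩ := ih
    refine ⟨ok_pcomp h1 hP, ?_⟩
    show el (pcomp (ppw P n) P) = _
    rw [el_pcomp h1 hP, h2, pow_succ]

/-- a packed permutation which is not the packed identity is not the identity -/
theorem el_ne {P : ℕ} (hP : ok P = true) (h : ∃ i < 24, papp P i ≠ i) : el P ≠ 1 := by
  obtain ⟨i, hi, h⟩ := h
  intro h1
  have h2 := idx_el_smul hP (SporadicA.GolayBase.pt i)
  rw [h1, one_smul, SporadicA.GolayBase.idx_pt hi] at h2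
  exact h h2.symm

theorem moved_all : ∀ j < 7, 0 < j → ∃ i < 24, papp (pcomp (ppw (tE1.getD j idP) (tEi.getD j 0))
    (ppw (tE2.getD j idP) (tEk.getD j 0))) i ≠ i := by decide +kernel

/-- every non-trivial 2-element of `M24` is a product of two elements of order 11, generating an element of order 23 -/
theorem two_M24_eleven {u : M24} {n : ℕ} (hu : u ^ 2 ^ n = 1) : u = 1 ∨ ∃ a b : M24, a ^ 11 = 1 ∧ b ^ 11 = 1 ∧
    u = a * b ∧ ∃ i k : ℕ, (a ^ i * b ^ k) ^ 23 = 1 ∧ a ^ i * b ^ k ≠ 1 := by
  obtain ⟨c, j, hc⟩ := two_conj hu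
  by_cases hj : j < 7 ∧ 0 < j
  · right
    have h := chk11_all j hj.1 hj.2
    have hm := moved_all j hj.1 hj.2
    unfold chk11 at h
    simp only [Bool.and_eq_true] at h
    obtain ⟨⟨⟨⟨⟨⟨ha, hb⟩, h1⟩, h2⟩, h3⟩, h4⟩, -⟩ := h
    generalize tE1.getD j idP = A at *
    generalize tE2.getD j idP = B at *
    generalize tEi.getD j 0 = i at *
    generalize tEk.getD j 0 = k at *
    have e1 := congrArg el (Nat.eq_of_beq_eq_true h1)
    have e2 := congrArg el (Nat.eq_of_beq_eq_true h2)
    have e3 := congrArg el (Nat.eq_of_beq_eq_true h3)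
    have e4 := congrArg el (Nat.eq_of_beq_eq_true h4)
    have hw : ok (pcomp (ppw A i) (ppw B k)) = true := ok_pcomp (el_ppw ha i).1 (el_ppw hb k).1
    have hw' : el (pcomp (ppw A i) (ppw B k)) = el A ^ i * el B ^ k := by
      rw [el_pcomp (el_ppw ha i).1 (el_ppw hb k).1, (el_ppw ha i).2, (el_ppw hb k).2]
    rw [(el_ppw ha 11).2, el_idP] at e1
    rw [(el_ppw hb 11).2, el_idP] at e2
    rw [el_pcomp ha hb, ← hc] at e3
    rw [(el_ppw hw 23).2, hw', el_idP] at e4
    have e5 := el_ne hw hm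
    rw [hw'] at e5
    refine ⟨c⁻¹ * el A * c⁻¹⁻¹, c⁻¹ * el B * c⁻¹⁻¹, by rw [conj_pow, e1]; group, by rw [conj_pow, e2]; group, ?_, i, k, ?_, ?_⟩
    · have : u = c⁻¹ * (c * u * c⁻¹) * c := by group
      rw [this, ← e3]; group
    · rw [conj_pow, conj_pow, conj_mul, conj_pow, e4]; group
    · rw [conj_pow, conj_pow, conj_mul]
      intro h
      apply e5
      have : el A ^ i * el B ^ k = c * (c⁻¹ * (el A ^ i * el B ^ k) * c⁻¹⁻¹) * c⁻¹ := by group
      rw [this, h]; group
  · left
    have he : rp.getD j idP = idP := by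
      rcases Nat.lt_or_ge j 7 with h7 | h7
      · have h0 : j = 0 := by
          by_contra h0
          exact hj ⟨h7, Nat.pos_of_ne_zero h0⟩
        rw [h0]; rfl
      · rw [List.getD_eq_default _ _ (by simpa [rp] using h7)]
    rw [he, el_idP] at hc
    have : u = c⁻¹ * (c * u * c⁻¹) * c := by group
    rw [this, hc]; group

/-! ### The extension -/

/-- product of two elements of square one -/
def I2 {G : Type*} [Group G] (g : G) : Prop := ∃ s t : G, s * s = 1 ∧ t * t = 1 ∧ g = s * t

theorem I2.conj {G : Type*} [Group G] {g : G} (h : I2 g) (x : G) : I2 (x * g * x⁻¹) := by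
  obtain ⟨s, t, hs, ht, rfl⟩ := h
  refine ⟨x * s * x⁻¹, x * t * x⁻¹, ?_, ?_, by group⟩
  · calc x * s * x⁻¹ * (x * s * x⁻¹) = x * (s * s) * x⁻¹ := by group
      _ = 1 := by rw [hs]; group
  · calc x * t * x⁻¹ * (x * t * x⁻¹) = x * (t * t) * x⁻¹ := by group
      _ = 1 := by rw [ht]; group

theorem I2.of_inv {G : Type*} [Group G] {x t : G} (ht : t * t = 1) (h : t * x * t = x⁻¹) : I2 x := by
  refine ⟨t, t * x, ht, ?_, ?_⟩
  · calc t * x * (t * x) = (t * x * t) * x := by group
      _ = 1 := by rw [h]; group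
  · rw [← mul_assoc, ht, one_mul]

/-- one inverted element of order `p` is enough if `p` divides the order exactly once -/
theorem I2.of_sylow {G : Type*} [Group G] [Finite G] {p : ℕ} [hp : Fact p.Prime] (h2 : ¬ p ^ 2 ∣ Nat.card G) {x t : G}
    (hx : orderOf x = p) (ht : t * t = 1) (htx : t * x * t = x⁻¹) {y : G} (hy : y ^ p = 1) : I2 y := by
  by_cases hy1 : y = 1
  · exact ⟨1, 1, by simp, by simp, by simp [hy1]⟩
  have hyo : orderOf y = p := orderOf_eq_prime hy hy1
  have hs : ∀ {z : G}, orderOf z = p → ∃ S : Sylow p G, (S : Subgroup G) = zpowers z := by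
    intro z hz
    have hc : Nat.card (zpowers z) = p ^ 1 := by rw [Nat.card_zpowers, hz, pow_one]
    obtain ⟨S, hS⟩ := (IsPGroup.of_card hc).exists_le_sylow
    refine ⟨S, (Subgroup.eq_of_le_of_card_ge hS ?_).symm⟩
    obtain ⟨k, hk⟩ := IsPGroup.iff_card.1 S.2
    have hk1 : k ≤ 1 := by
      by_contra hlt
      exact h2 ((pow_dvd_pow p (by omega)).trans (hk ▸ Subgroup.card_subgroup_dvd_card _))
    rw [hk, hc]
    exact Nat.pow_le_pow_right hp.out.pos hk1
  obtain ⟨S, hS⟩ := hs hx
  obtain ⟨T, hT⟩ := hs hyo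
  obtain ⟨g, hg⟩ := MulAction.exists_smul_eq G T S
  have h1 : g * y * g⁻¹ ∈ zpowers x := by
    rw [← hS, ← hg, Sylow.coe_subgroup_smul, hT]
    exact Subgroup.smul_mem_pointwise_smul _ _ _ (mem_zpowers y)
  obtain ⟨k, hk⟩ := mem_zpowers_iff.1 h1
  have h3 : I2 (g * y * g⁻¹) := by
    rw [← hk]
    refine I2.of_inv ht ?_
    have ht' : t⁻¹ = t := inv_eq_of_mul_eq_one_left ht
    calc t * x ^ k * t = t * x ^ k * t⁻¹ := by rw [ht']
      _ = (t * x * t⁻¹) ^ k := (conj_zpow).symm
      _ = (x ^ k)⁻¹ := by rw [ht', htx, inv_zpow]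
  have h4 := h3.conj g⁻¹
  rwa [show g⁻¹ * (g * y * g⁻¹) * g⁻¹⁻¹ = y by group] at h4

/-- an extension `2^11 . M24` of odd index -/
structure MExt {G : Type*} [Group G] (A N : Subgroup G) (π : N →* M24) : Prop where
  card : Nat.card A = 2 ^ 11
  sq : ∀ x ∈ A, x * x = 1
  norm : N ≤ normalizer (A : Set G)
  surj : Function.Surjective π
  ker : ∀ n : N, π n = 1 ↔ (n : G) ∈ A
  cen : ∀ x ∈ N, (∀ a ∈ A, x * a = a * x) → x ∈ A
  odd : ¬ 2 ∣ N.index

section

variable {G : Type*} [Group G] [Finite G]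

/-- an element of prime order acting on a group -/
theorem fix_modEq {p : ℕ} [hp : Fact p.Prime] {x : G} (hx : orderOf x = p) {E : Subgroup G}
    (h1 : x ∈ normalizer (E : Set G)) :
    Nat.card (E ⊓ centralizer {x} : Subgroup G) ≡ Nat.card E [MOD p] := by
  have hmem : ∀ g ∈ zpowers x, ∀ a ∈ E, g * a * g⁻¹ ∈ E := by
    intro g hg a ha
    have h2 : g ∈ normalizer (E : Set G) := (zpowers_le.2 h1) hg
    exact (mem_normalizer_iff.1 h2 a).1 ha
  let act : MulAction (zpowers x) E :=
    { smul := fun g a => ⟨g * a * (g : G)⁻¹, hmem g g.2 a a.2⟩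
      one_smul := fun a => Subtype.ext (by
        show (1 : G) * a * (1 : G)⁻¹ = a
        group)
      mul_smul := fun g h a => Subtype.ext (by
        show (g * h : G) * a * (g * h : G)⁻¹ = g * (h * a * (h : G)⁻¹) * (g : G)⁻¹
        group) }
  have hpg : IsPGroup p (zpowers x) := IsPGroup.of_card (n := 1) (by rw [Nat.card_zpowers, hx, pow_one])
  have h := hpg.card_modEq_card_fixedPoints E
  have h2 : Nat.card (MulAction.fixedPoints (zpowers x) E) =
      Nat.card (E ⊓ centralizer {x} : Subgroup G) := by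
    refine Nat.card_congr ⟨fun a => ⟨a.1, a.1.2, ?_⟩, fun a => ⟨⟨a, a.2.1⟩, ?_⟩, fun a => rfl, fun a => rfl⟩
    · change (a.1 : G) ∈ centralizer {x}
      rw [mem_centralizer_singleton_iff]
      have h3 : x * (a.1 : G) * x⁻¹ = a.1 := congrArg Subtype.val (a.2 ⟨x, mem_zpowers x⟩)
      exact (mul_inv_eq_iff_eq_mul.1 h3).symm
    · rintro ⟨g, hg⟩
      apply Subtype.ext
      show g * (a : G) * g⁻¹ = a
      obtain ⟨n, rfl⟩ := hg
      have h3 : Commute x (a : G) := (mem_centralizer_singleton_iff.1 a.2.2).symm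
      rw [(h3.zpow_left n).eq, mul_inv_cancel_right]
  rw [h2] at h
  exact h.symm

variable {A N : Subgroup G} {π : N →* M24}

namespace MExt

theorem comm (H : MExt A N π) {x y : G} (hx : x ∈ A) (hy : y ∈ A) : x * y = y * x := by
  have h1 := H.sq _ (A.mul_mem hx hy)
  have hxi : x⁻¹ = x := inv_eq_of_mul_eq_one_left (H.sq x hx)
  have hyi : y⁻¹ = y := inv_eq_of_mul_eq_one_left (H.sq y hy)
  have h2 : x * y = (x * y)⁻¹ := eq_inv_of_mul_eq_one_left h1
  rw [mul_inv_rev, hxi, hyi] at h2
  exact h2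

theorem nconj (H : MExt A N π) (n : N) {x : G} (hx : x ∈ A) : (n : G) * x * (n : G)⁻¹ ∈ A :=
  (mem_normalizer_iff.1 (H.norm n.2) x).1 hx

/-- an element of order 23 has no fixed points on `A` -/
theorem fix (H : MExt A N π) {s : N} (hs : s ^ 23 = 1) (hs1 : π s ≠ 1) {a : G} (ha : a ∈ A)
    (hc : (s : G) * a = a * s) : a = 1 := by
  have f23 : Fact (Nat.Prime 23) := ⟨by norm_num⟩
  have hso : orderOf (s : G) = 23 := by
    refine orderOf_eq_prime (by rw [← Subgroup.coe_pow, hs]; rfl) ?_
    intro h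
    exact hs1 ((H.ker s).2 (h ▸ A.one_mem))
  have h1 := fix_modEq hso (H.norm s.2)
  have hA : IsPGroup 2 A := IsPGroup.of_card H.card
  obtain ⟨k, hk⟩ := IsPGroup.iff_card.1 (hA.to_le (inf_le_left : A ⊓ centralizer {(s : G)} ≤ A))
  have hk11 : k ≤ 11 := by
    have h3 := Subgroup.card_le_of_le (inf_le_left : A ⊓ centralizer {(s : G)} ≤ A)
    rw [hk, H.card] at h3
    exact (Nat.pow_le_pow_iff_right (by norm_num)).1 h3
  rw [hk, H.card] at h1
  have h4 : ∀ k ≤ 11, 2 ^ k ≡ 2 ^ 11 [MOD 23] → k = 0 ∨ k = 11 := by decide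
  rcases h4 k hk11 h1 with rfl | rfl
  · rw [pow_zero] at hk
    have h5 : a ∈ A ⊓ centralizer {(s : G)} := ⟨ha, mem_centralizer_singleton_iff.2 hc.symm⟩
    rw [Subgroup.eq_bot_of_card_eq _ hk, mem_bot] at h5
    exact h5
  · exfalso
    have h5 : A ⊓ centralizer {(s : G)} = A := Subgroup.eq_of_le_of_card_ge inf_le_left (by rw [hk, H.card])
    apply hs1
    rw [H.ker]
    refine H.cen _ s.2 fun b hb => ?_
    rw [← h5] at hb
    exact (mem_centralizer_singleton_iff.1 hb.2).symm

/-- the commutators with an element above an element of order 23 fill `A` -/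
theorem fill (H : MExt A N π) {s : N} (hs : (π s) ^ 23 = 1) (hs1 : π s ≠ 1) {v : G} (hv : v ∈ A) :
    ∃ x ∈ A, x * (s * x⁻¹ * (s : G)⁻¹) = v := by
  have hm : ∀ x ∈ A, x * (s * x⁻¹ * (s : G)⁻¹) ∈ A := fun x hx => A.mul_mem hx (H.nconj s (A.inv_mem hx))
  let f : A → A := fun x => ⟨x * (s * (x : G)⁻¹ * (s : G)⁻¹), hm x x.2⟩
  have h2 : (s ^ 2) ^ 23 = 1 := by
    have h3 : π (s ^ 23) = 1 := by rw [map_pow, hs]
    have h4 := H.sq _ ((H.ker _).1 h3)
    apply Subtype.ext
    calc ((((s ^ 2) ^ 23 : N)) : G) = ((s ^ 23 : N) : G) * ((s ^ 23 : N) : G) := by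
          rw [← Subgroup.coe_mul, ← pow_mul, mul_comm 2 23, pow_mul, pow_two]
      _ = _ := h4
  have h5 : π (s ^ 2) ≠ 1 := by
    intro h
    apply hs1
    rw [map_pow] at h
    calc π s = (π s) ^ 23 * ((π s) ^ 2) ^ (-11 : ℤ) := by
          rw [← zpow_natCast, ← zpow_natCast, ← zpow_mul, ← zpow_add]; norm_num
      _ = 1 := by rw [hs, h, one_zpow, mul_one]
  have hinj : Function.Injective f := by
    intro x y hxy
    have h6 : (x : G) * (s * (x : G)⁻¹ * (s : G)⁻¹) = y * (s * (y : G)⁻¹ * (s : G)⁻¹) := congrArg Subtype.val hxy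
    have h7 : (y : G)⁻¹ * x * s = s * ((y : G)⁻¹ * x) := by
      calc (y : G)⁻¹ * x * s = (y : G)⁻¹ * (x * (s * (x : G)⁻¹ * (s : G)⁻¹)) * s * x := by group
        _ = (y : G)⁻¹ * (y * (s * (y : G)⁻¹ * (s : G)⁻¹)) * s * x := by rw [h6]
        _ = _ := by group
    have h8 : ((s ^ 2 : N) : G) * ((y : G)⁻¹ * x) = ((y : G)⁻¹ * x) * ((s ^ 2 : N) : G) := by
      rw [Subgroup.coe_pow, pow_two]
      calc (s : G) * s * ((y : G)⁻¹ * x) = s * (s * ((y : G)⁻¹ * x)) := by group
        _ = s * ((y : G)⁻¹ * x * s) := by rw [h7]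
        _ = (s * ((y : G)⁻¹ * x)) * s := by group
        _ = _ := by rw [← h7]; group
    have h9 := H.fix h2 h5 (A.mul_mem (A.inv_mem y.2) x.2) h8
    exact Subtype.ext (inv_mul_eq_one.1 h9).symm
  obtain ⟨x, hx⟩ := Finite.surjective_of_injective hinj ⟨v, hv⟩
  exact ⟨x, x.2, congrArg Subtype.val hx⟩

/-- a 2-element is conjugate into `N` -/
theorem into (H : MExt A N π) {g : G} {n : ℕ} (hg : g ^ 2 ^ n = 1) : ∃ (h : N) (c : G), g = c * h * c⁻¹ ∧ (π h) ^ 2 ^ n = 1 := by
  have f2 : Fact (Nat.Prime 2) := ⟨Nat.prime_two⟩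
  have hp : IsPGroup 2 (zpowers g) := by
    rintro ⟨y, hy⟩
    obtain ⟨m, rfl⟩ := mem_zpowers_iff.1 hy
    refine ⟨n, Subtype.ext ?_⟩
    show (g ^ m) ^ 2 ^ n = 1
    rw [← zpow_natCast, ← zpow_mul, mul_comm, zpow_mul, zpow_natCast, hg, one_zpow]
  obtain ⟨a, ha⟩ := hp.nonempty_fixed_point_of_prime_not_dvd_card (G ⧸ N) H.odd
  obtain ⟨c, rfl⟩ := QuotientGroup.mk_surjective a
  have h' : (QuotientGroup.mk (g * c) : G ⧸ N) = QuotientGroup.mk c := ha ⟨g, mem_zpowers g⟩
  rw [QuotientGroup.eq] at h'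
  have h2 := N.inv_mem h'
  have e : (((g * c)⁻¹ * c)⁻¹ : G) = c⁻¹ * g * c := by group
  rw [e] at h2
  refine ⟨⟨_, h2⟩, c, by group, ?_⟩
  rw [← map_pow]
  have : (⟨c⁻¹ * g * c, h2⟩ : N) ^ 2 ^ n = 1 := by
    apply Subtype.ext
    show (c⁻¹ * g * c) ^ 2 ^ n = 1
    have h := conj_pow (i := 2 ^ n) (a := c⁻¹) (b := g)
    rw [inv_inv] at h
    rw [h, hg]; group
  rw [this, map_one]

/-- **every 2-element is a commutator** -/
theorem two_comm (H : MExt A N π) {g : G} {n : ℕ} (hg : g ^ 2 ^ n = 1) : IsC g := by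
  obtain ⟨h, c, rfl, hu⟩ := H.into hg
  obtain ⟨a, b, hab, ha⟩ := H831.Ore.two_M24 (u := (π h)⁻¹) (n := n) (by rw [inv_pow, hu, inv_one])
  -- `π h = [b, a]`, `a` of order 23
  have hab' : π h = b * a * b⁻¹ * a⁻¹ := by
    rw [← inv_inv (π h), hab]; group
  obtain ⟨a', rfl⟩ := H.surj a
  obtain ⟨b', rfl⟩ := H.surj b
  have hs : (π (b' * a' * b'⁻¹)) ^ 23 = 1 := by
    rw [map_mul, map_mul, map_inv, conj_pow, ← ha, pow_orderOf_eq_one]; group
  have hs1 : π (b' * a' * b'⁻¹) ≠ 1 := by
    intro h1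
    have h2 : π a' = 1 := by
      have h3 : π a' = (π b')⁻¹ * π (b' * a' * b'⁻¹) * π b' := by rw [map_mul, map_mul, map_inv]; group
      rw [h3, h1]; group
    rw [h2, orderOf_one] at ha
    omega
  have hv : (h : G) * ((b' * a' * b'⁻¹ * a'⁻¹ : N) : G)⁻¹ ∈ A := by
    rw [← Subgroup.coe_inv, ← Subgroup.coe_mul, ← H.ker, map_mul, map_inv, hab']
    simp only [map_mul, map_inv]
    group
  obtain ⟨x, hx, hxv⟩ := H.fill hs hs1 hv
  have key : (h : G) = (x * b') * a' * (x * b')⁻¹ * (a' : G)⁻¹ := by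
    calc (h : G) = (h : G) * ((b' * a' * b'⁻¹ * a'⁻¹ : N) : G)⁻¹ * ((b' * a' * b'⁻¹ * a'⁻¹ : N) : G) := by group
      _ = x * (((b' * a' * b'⁻¹ : N) : G) * x⁻¹ * ((b' * a' * b'⁻¹ : N) : G)⁻¹) * ((b' * a' * b'⁻¹ * a'⁻¹ : N) : G) := by
        rw [hxv]
      _ = _ := by push_cast; group
  exact IsC.conj ⟨x * b', a', key⟩ c

/-- a lift of order 11 -/
theorem lift (H : MExt A N π) {a : M24} (ha : a ^ 11 = 1) : ∃ a' : N, π a' = a ∧ (a' : G) ^ 11 = 1 := by
  obtain ⟨n, rfl⟩ := H.surj a
  refine ⟨n ^ 12, ?_, ?_⟩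
  · rw [map_pow, pow_succ, ha, one_mul]
  · have h3 : π (n ^ 11) = 1 := by rw [map_pow, ha]
    have h4 := H.sq _ ((H.ker _).1 h3)
    have h5 : (n : G) ^ 22 = 1 := by
      rw [show 22 = 11 + 11 by norm_num, pow_add]
      exact h4
    rw [Subgroup.coe_pow, ← pow_mul, show 12 * 11 = 22 * 6 by norm_num, pow_mul, h5, one_pow]

/-- **every 2-element is a product of four elements of square one** -/
theorem two_four (H : MExt A N π) (h11 : ∀ y : G, y ^ 11 = 1 → I2 y) {g : G} {n : ℕ} (hg : g ^ 2 ^ n = 1) : I4 g := by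
  obtain ⟨h, c, rfl, hu⟩ := H.into hg
  have conj4 : I4 (h : G) → I4 (c * h * c⁻¹) := by
    rintro ⟨p, q, r, s, hp, hq, hr, hs, e⟩
    have sq : ∀ y : G, y * y = 1 → c * y * c⁻¹ * (c * y * c⁻¹) = 1 := fun y hy => by
      calc c * y * c⁻¹ * (c * y * c⁻¹) = c * (y * y) * c⁻¹ := by group
        _ = 1 := by rw [hy]; group
    exact ⟨_, _, _, _, sq p hp, sq q hq, sq r hr, sq s hs, by rw [e]; group⟩
  apply conj4
  rcases two_M24_eleven hu with h1 | ⟨a, b, ha, hb, hab, i, k, hw, hw1⟩
  · exact ⟨h, 1, 1, 1, H.sq _ ((H.ker h).1 h1), by simp, by simp, by simp, by simp⟩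
  obtain ⟨a', rfl, ha'⟩ := H.lift ha
  obtain ⟨b', rfl, hb'⟩ := H.lift hb
  -- the subgroup `B` of the products of commutators
  let F : N → A →* A := fun s =>
    { toFun := fun x => ⟨x * (s * (x : G)⁻¹ * (s : G)⁻¹), A.mul_mem x.2 (H.nconj s (A.inv_mem x.2))⟩
      map_one' := Subtype.ext (by simp)
      map_mul' := fun x y => Subtype.ext (by
        show (x * y : G) * (s * (x * y : G)⁻¹ * (s : G)⁻¹) =
          x * (s * (x : G)⁻¹ * (s : G)⁻¹) * (y * (s * (y : G)⁻¹ * (s : G)⁻¹))
        have e1 := H.comm (H.nconj s (A.inv_mem x.2)) y.2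
        have e2 := H.comm (H.nconj s (A.inv_mem x.2)) (H.nconj s (A.inv_mem y.2))
        calc (x * y : G) * (s * (x * y : G)⁻¹ * (s : G)⁻¹)
            = x * y * ((s * (y : G)⁻¹ * (s : G)⁻¹) * (s * (x : G)⁻¹ * (s : G)⁻¹)) := by group
          _ = x * y * ((s * (x : G)⁻¹ * (s : G)⁻¹) * (s * (y : G)⁻¹ * (s : G)⁻¹)) := by rw [← e2]
          _ = x * (y * (s * (x : G)⁻¹ * (s : G)⁻¹)) * (s * (y : G)⁻¹ * (s : G)⁻¹) := by group
          _ = x * ((s * (x : G)⁻¹ * (s : G)⁻¹) * y) * (s * (y : G)⁻¹ * (s : G)⁻¹) := by rw [← e1]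
          _ = _ := by group) }
  have hF : ∀ (s : N) (x : A), ((F s x : A) : G) = x * (s * (x : G)⁻¹ * (s : G)⁻¹) := fun _ _ => rfl
  -- `B = [A,a'] · a'[A,b']a'⁻¹`
  let C : N → A →* A := fun s =>
    { toFun := fun x => ⟨s * x * (s : G)⁻¹, H.nconj s x.2⟩
      map_one' := Subtype.ext (by simp)
      map_mul' := fun x y => Subtype.ext (by
        show (s : G) * (x * y) * (s : G)⁻¹ = s * x * (s : G)⁻¹ * (s * y * (s : G)⁻¹)
        group) }
  have hCm : ∀ (s : N) (x : A), ((C s x : A) : G) = s * x * (s : G)⁻¹ := fun _ _ => rfl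
  have hAc : ∀ x y : A, x * y = y * x := fun x y => Subtype.ext (H.comm x.2 y.2)
  let B : Subgroup A := (F a').range ⊔ ((C a').comp (F b')).range
  have mulB : ∀ y ∈ B, ∃ p q : A, y = F a' p * C a' (F b' q) := by
    intro y hy
    haveI : ((F a').range).Normal := ⟨fun n hn g => by
      rw [hAc g n, mul_assoc, mul_inv_cancel, mul_one]; exact hn⟩
    obtain ⟨_, ⟨p, rfl⟩, _, ⟨q, rfl⟩, rfl⟩ := Subgroup.mem_sup_of_normal_left.1 hy
    exact ⟨p, q, rfl⟩
  -- elements acting trivially on `A / B`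
  let T : N → Prop := fun s => ∀ x : A, F s x ∈ B
  have Tinv : ∀ {s : N}, T s → ∀ b ∈ B, C s b ∈ B := by
    intro s hs b hb
    have h1 : C s b = (F s b)⁻¹ * b := by
      apply Subtype.ext
      rw [Subgroup.coe_mul, Subgroup.coe_inv, hF, hCm]
      group
    rw [h1]
    exact B.mul_mem (B.inv_mem (hs b)) hb
  have Tmul : ∀ {s t : N}, T s → T t → T (s * t) := by
    intro s t hs ht x
    have h1 : F (s * t) x = F s x * C s (F t x) := by
      apply Subtype.ext
      rw [Subgroup.coe_mul, hF, hF, hCm, hF]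
      push_cast
      group
    rw [h1]
    exact B.mul_mem (hs x) (Tinv hs _ (ht x))
  have Tone : T 1 := fun x => by
    have : F 1 x = 1 := Subtype.ext (by rw [hF]; simp)
    rw [this]; exact B.one_mem
  have Tpow : ∀ {s : N} (m : ℕ), T s → T (s ^ m) := by
    intro s m hs
    induction m with
    | zero => rw [pow_zero]; exact Tone
    | succ m ih => rw [pow_succ]; exact Tmul ih hs
  have Ta : T a' := fun x => (le_sup_left : (F a').range ≤ B) ⟨x, rfl⟩
  have Tb : T b' := by
    intro x
    -- `C a' (F b' x) ∈ B`, and `a'` acts trivially on `A / B`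
    have h1 : C a' (F b' x) ∈ B := (le_sup_right : ((C a').comp (F b')).range ≤ B) ⟨x, rfl⟩
    have h2 : F b' x = F a' (F b' x) * C a' (F b' x) := by
      apply Subtype.ext
      rw [Subgroup.coe_mul, hF a', hCm]
      group
    rw [h2]
    exact B.mul_mem (Ta _) h1
  have hwT : T (a' ^ i * b' ^ k) := Tmul (Tpow i Ta) (Tpow k Tb)
  have hw' : (π (a' ^ i * b' ^ k)) ^ 23 = 1 := by rw [map_mul, map_pow, map_pow]; exact hw
  have hw1' : π (a' ^ i * b' ^ k) ≠ 1 := by rw [map_mul, map_pow, map_pow]; exact hw1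
  have hv : (h : G) * ((a' * b' : N) : G)⁻¹ ∈ A := by
    rw [← Subgroup.coe_inv, ← Subgroup.coe_mul, ← H.ker, map_mul, map_inv, hab, map_mul, mul_inv_cancel]
  obtain ⟨x, hx, hxv⟩ := H.fill hw' hw1' hv
  have hxB : (⟨_, hv⟩ : A) ∈ B := by
    have : (⟨_, hv⟩ : A) = F (a' ^ i * b' ^ k) ⟨x, hx⟩ := Subtype.ext hxv.symm
    rw [this]; exact hwT _
  obtain ⟨p, q, hpq⟩ := mulB _ hxB
  have e : (h : G) * ((a' * b' : N) : G)⁻¹ = (p * (a' * (p : G)⁻¹ * (a' : G)⁻¹)) *
      (a' * (q * (b' * (q : G)⁻¹ * (b' : G)⁻¹)) * (a' : G)⁻¹) := congrArg Subtype.val hpq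
  have key : (h : G) = (p * a' * (p : G)⁻¹) * (q * b' * (q : G)⁻¹) := by
    calc (h : G) = (h : G) * ((a' * b' : N) : G)⁻¹ * ((a' * b' : N) : G) := by group
      _ = (p * (a' * (p : G)⁻¹ * (a' : G)⁻¹)) * (a' * (q * (b' * (q : G)⁻¹ * (b' : G)⁻¹)) * (a' : G)⁻¹) *
          ((a' * b' : N) : G) := by rw [e]
      _ = _ := by push_cast; group
  obtain ⟨s1, t1, hs1, ht1, e1⟩ := (h11 _ ha').conj (p : G)
  obtain ⟨s2, t2, hs2, ht2, e2⟩ := (h11 _ hb').conj (q : G)
  exact ⟨s1, t1, s2, t2, hs1, ht1, hs2, ht2, by rw [key, e1, e2]; group⟩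

end MExt

end

end Cfsg.Agent.H854.Ore
end

private theorem dce_41aff4988cf4 : _root_.True := by
  try have : _root_.True := by simp only [_root_.Cfsg.Agent.H860.Two24Data.rp.eq_1]
  exact _root_.True.intro
end

-- part: H854/Ore/Fi24Two
section
set_option linter.all false
open scoped Cfsg.Agent.FastGrp

/-!
# `Fi24'`: every 2-element is a commutator and a product of four elements of square one (S2443, S4171) (helper854)
-/

set_option autoImplicit false
set_option maxRecDepth 100000

open Cfsg Subgroup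

namespace Cfsg.Agent.H854.Ore.Fi24

open Cfsg.Agent.H777.Ore Cfsg.Agent.H827 Cfsg.Agent.H843.Pat
open Cfsg.Agent.Fischer.Fi24Spider (word_append word_cons word_nil)
open Cfsg.Agent.H827.CocoD (word_mem rho_of_chkPt)
open Cfsg.Agent.Fischer.Fi24RepDef Cfsg.Agent.Fischer.Fi24Rep Cfsg.Agent.Lib.PermNet Cfsg.Agent.Lib.PermNetPt
open Cfsg.Spor.Fi24 (Gen)

theorem finite' : Finite Spor.Fi24' := CocoD.finite

/-- the subgroup `2^11 . M24` -/
theorem ext : MExt Coco.AA (normalizer (Coco.AA : Set Spor.Fi24')) Coco.ind where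
  card := Coco.cardA
  sq := fun _ hx => CocoD.pre.sq_A hx
  norm := le_rfl
  surj := Coco.ind_surj
  ker := Coco.ind_ker
  cen := fun _ _ h => Coco.cen h
  odd := Coco.odd_index

/-- **every 2-element of `Fi24'` is a commutator** -/
theorem two_comm {g : Spor.Fi24'} {n : ℕ} (hg : g ^ 2 ^ n = 1) : IsC g := by
  have := finite'
  exact ext.two_comm hg

/-- an element of order 11 -/
def xw : List Gen := [.a, .c, .e, .g, .l, .b, .d, .f, .j, .k]

/-- an involution inverting it -/
def tw : List Gen := [.a, .c, .e, .g, .l, .i]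

theorem t_sq : chkEq (tw ++ tw) [] = true := by decide +kernel
theorem txt : chkEq (tw ++ xw ++ tw ++ xw) [] = true := by decide +kernel
theorem x11 : chkEq (xw ++ xw ++ xw ++ xw ++ xw ++ xw ++ xw ++ xw ++ xw ++ xw ++ xw) [] = true := by decide +kernel

theorem x_move : chkPt (nw xw false) 193 193 = false := by decide +kernel

/-- the element of order 11 in `Fi24'` -/
noncomputable def x0 : Spor.Fi24' := ⟨word xw, word_mem (by decide)⟩

/-- the involution of `Fi24'` -/
noncomputable def t0 : Spor.Fi24' := ⟨word tw, word_mem (by decide)⟩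

theorem x0_ne : x0 ≠ 1 := by
  intro h
  have h1 : word xw = word [] := by rw [word_nil]; exact congrArg Subtype.val h
  have h2 : winv (nw xw false) 193 = 193 := by
    rw [winv_eq (wok xw false), Equiv.Perm.inv_eq_iff_eq, ← rho_word, h1, word_nil, map_one]
    rfl
  have h4 := x_move
  unfold chkPt at h4
  rw [h2] at h4
  exact absurd h4 (by decide)

theorem x0_order : orderOf x0 = 11 := by
  have : Fact (Nat.Prime 11) := ⟨by norm_num⟩
  refine orderOf_eq_prime (Subtype.ext ?_) x0_ne
  have h := word_eq_of x11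
  simp only [word_append, word_nil] at h
  show (word xw) ^ 11 = 1
  rw [← h]
  simp only [pow_succ, pow_zero, one_mul]

theorem t0_sq : t0 * t0 = 1 := by
  have h := word_eq_of t_sq
  rw [word_append, word_nil] at h
  exact Subtype.ext h

theorem t0_x0 : t0 * x0 * t0 = x0⁻¹ := by
  have h := word_eq_of txt
  simp only [word_append, word_nil] at h
  rw [eq_inv_iff_mul_eq_one]
  exact Subtype.ext h

theorem sr_eleven (y : Spor.Fi24') (hy : y ^ 11 = 1) : I2 y := by
  have := finite'
  have : Fact (Nat.Prime 11) := ⟨by norm_num⟩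
  exact I2.of_sylow (p := 11) (by rw [CocoD.card_eq]; norm_num) x0_order t0_sq t0_x0 hy

/-- **every 2-element of `Fi24'` is a product of four elements of square one** -/
theorem two_four {g : Spor.Fi24'} {n : ℕ} (hg : g ^ 2 ^ n = 1) : I4 g := by
  have := finite'
  exact ext.two_four sr_eleven hg

end Cfsg.Agent.H854.Ore.Fi24
end

-- part: H854/Ore/ExtProd
section
set_option linter.all false
open scoped Cfsg.Agent.FastGrp

/-!
# Groups with a subgroup `2^11 . M24` of odd index: the 2-elements are products of two elements of order 23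
(S2465, S2453) (helper854)

* `MExt.two_prod` : every 2-element is `a * b` with `a ^ 23 = b ^ 23 = 1`; `MExt.two_pr` : so it is `Pr n` for `n` prime to 23.
-/

set_option autoImplicit false
set_option linter.unusedSectionVars false

open Cfsg Subgroup

namespace Cfsg.Agent.H854.Ore

open Cfsg.Agent.SporadicStructure.M24El Cfsg.Agent.SporadicA.GolayPerm Cfsg.Agent.Lib.F2Mat
open Cfsg.Agent.H860.Two24 Cfsg.Agent.H860.Two24Data Cfsg.Agent.H777.Ore

/-- elements of order 23 -/
def exV1 : List ℕ := [983478296959358443554250846857397270, 435609769663561377304596957950597127, 526475193483151018049148542612743732, 928700450512634593027366072917433075, 435609769663561377304596957950597127, 683581010365472984858728795902035238, 482419119488086908251866214261851408]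

/-- elements of order 23 -/
def exV2 : List ℕ := [956302485175575353788796878166559809, 776838379337473446636627489629275397, 956709441910203461498593497208492130, 442244753731677887827186527001555247, 237669737550661069534520897246152972, 902341838122745061286414040863911439, 42369145575781168702407732474071312]

/-- the check -/
def chkEx (a b m : ℕ) : Bool :=
  ok a && ok b && Nat.beq (ppw a 23) idP && Nat.beq (ppw b 23) idP && Nat.beq (pcomp a b) m

theorem chkEx_all : ∀ j < 7, chkEx (exV1.getD j idP) (exV2.getD j idP) (rp.getD j idP) = true := by decide +kernel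

theorem movedEx_all : ∀ j < 7, ∃ i < 24, papp (exV1.getD j idP) i ≠ i := by decide +kernel

/-- every 2-element of `M24` is a product of two elements of order 23 -/
theorem two_M24_prod {u : M24} {n : ℕ} (hu : u ^ 2 ^ n = 1) : ∃ a b : M24, a ^ 23 = 1 ∧ b ^ 23 = 1 ∧ u = a * b ∧ a ≠ 1 := by
  obtain ⟨c, j, hc⟩ := two_conj hu
  obtain ⟨j, hj, hc⟩ : ∃ j' < 7, c * u * c⁻¹ = el (rp.getD j' idP) := by
    rcases Nat.lt_or_ge j 7 with h7 | h7
    · exact ⟨j, h7, hc⟩
    · refine ⟨0, by norm_num, ?_⟩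
      rw [hc, List.getD_eq_default _ _ (by simpa [rp] using h7)]
      rfl
  have h := chkEx_all j hj
  have hm := movedEx_all j hj
  unfold chkEx at h
  simp only [Bool.and_eq_true] at h
  obtain ⟨⟨⟨⟨ha, hb⟩, h1⟩, h2⟩, h3⟩ := h
  generalize exV1.getD j idP = A at *
  generalize exV2.getD j idP = B at *
  have e1 := congrArg el (Nat.eq_of_beq_eq_true h1)
  have e2 := congrArg el (Nat.eq_of_beq_eq_true h2)
  have e3 := congrArg el (Nat.eq_of_beq_eq_true h3)
  rw [(el_ppw ha 23).2, el_idP] at e1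
  rw [(el_ppw hb 23).2, el_idP] at e2
  rw [el_pcomp ha hb, ← hc] at e3
  refine ⟨c⁻¹ * el A * c⁻¹⁻¹, c⁻¹ * el B * c⁻¹⁻¹, by rw [conj_pow, e1]; group, by rw [conj_pow, e2]; group, ?_, ?_⟩
  · have : u = c⁻¹ * (c * u * c⁻¹) * c := by group
    rw [this, ← e3]; group
  · intro h
    apply el_ne ha hm
    have : el A = c * (c⁻¹ * el A * c⁻¹⁻¹) * c⁻¹ := by group
    rw [this, h]; group

namespace MExt

variable {G : Type*} [Group G] [Finite G] {A N : Subgroup G} {π : N →* M24}

/-- a lift of order 23 -/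
theorem liftV (H : MExt A N π) {a : M24} (ha : a ^ 23 = 1) : ∃ a' : N, π a' = a ∧ (a' : G) ^ 23 = 1 := by
  obtain ⟨n, rfl⟩ := H.surj a
  refine ⟨n ^ 24, ?_, ?_⟩
  · rw [map_pow, pow_succ, ha, one_mul]
  · have h3 : π (n ^ 23) = 1 := by rw [map_pow, ha]
    have h4 := H.sq _ ((H.ker _).1 h3)
    have h5 : (n : G) ^ 46 = 1 := by
      rw [show 46 = 23 + 23 by norm_num, pow_add]
      exact h4
    rw [Subgroup.coe_pow, ← pow_mul, show 24 * 23 = 46 * 12 by norm_num, pow_mul, h5, one_pow]

/-- **every 2-element is a product of two elements of order 23** -/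
theorem two_prod (H : MExt A N π) {g : G} {n : ℕ} (hg : g ^ 2 ^ n = 1) : ∃ a b : G, a ^ 23 = 1 ∧ b ^ 23 = 1 ∧ g = a * b := by
  obtain ⟨h, c, rfl, hu⟩ := H.into hg
  obtain ⟨a, b, ha, hb, hab, ha1⟩ := two_M24_prod hu
  obtain ⟨a', rfl, ha'⟩ := H.liftV ha
  obtain ⟨b', rfl, hb'⟩ := H.liftV hb
  have hv : (h : G) * ((a' * b' : N) : G)⁻¹ ∈ A := by
    rw [← Subgroup.coe_inv, ← Subgroup.coe_mul, ← H.ker, map_mul, map_inv, hab, map_mul, mul_inv_cancel]
  obtain ⟨x, hx, hxv⟩ := H.fill ha ha1 hv
  have key : (h : G) = (x * a' * x⁻¹) * b' := by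
    calc (h : G) = (h : G) * ((a' * b' : N) : G)⁻¹ * ((a' * b' : N) : G) := by group
      _ = x * ((a' : G) * x⁻¹ * (a' : G)⁻¹) * ((a' * b' : N) : G) := by rw [hxv]
      _ = _ := by push_cast; group
  refine ⟨c * (x * a' * x⁻¹) * c⁻¹, c * b' * c⁻¹, ?_, ?_, by rw [key]; group⟩
  · rw [conj_pow, conj_pow, ha']; group
  · rw [conj_pow, hb']; group

/-- **every 2-element is `Pr m`, `m` prime to 23** -/
theorem two_pr (H : MExt A N π) {m : ℕ} (hm : Nat.Coprime 23 m) {g : G} {n : ℕ} (hg : g ^ 2 ^ n = 1) :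
    Cfsg.Agent.H78.Pw.Pr m g := by
  obtain ⟨a, b, ha, hb, h⟩ := H.two_prod hg
  exact ⟨a, b, h, Nat.Coprime.of_dvd_left (orderOf_dvd_of_pow_eq_one ha) hm,
    Nat.Coprime.of_dvd_left (orderOf_dvd_of_pow_eq_one hb) hm⟩

end MExt

end Cfsg.Agent.H854.Ore
end

-- part: H854/Ore/ExtAll
section
set_option linter.all false
open scoped Cfsg.Agent.FastGrp

/-!
# Groups with a subgroup `N = 2^11 . M24` : every element of `N` is a product of two elements of order prime to 6
(S2465, S2453) (helper854)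

* `MExt.all_prod` : every `g` in `N` is `a * b` with `a ^ 23 = 1`, `b ^ 8855 = 1` (`8855 = 5 * 7 * 11 * 23`);
* `MExt.all_pr` : so every element of `N` is `Pr 6`.
-/

set_option autoImplicit false
set_option linter.unusedSectionVars false
set_option Elab.async false

open Cfsg Subgroup

namespace Cfsg.Agent.H854.Ore

open Cfsg.Agent.SporadicStructure.M24El Cfsg.Agent.SporadicA.GolayPerm Cfsg.Agent.Lib.F2Mat
open Cfsg.Agent.H334.Ore.Mat

namespace ExtAll

/-- factorisations `a * b` of the class representatives, `a` of order 23, and the order of `b` -/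
def W25 : List (ℕ × ℕ × ℕ) := [(180453217544282954013174019616625836, 418124869175549472381674214899008917, 7),
  (607093902588685542489668855147072651, 543388584808616042244612398127945960, 23),
  (553737298647090205375188827888624707, 565258342254357370742329052177106032, 11),
  (956709441910203461498593497208492130, 831393811050110993784197310996241955, 23),
  (526475193483151018049148542612743732, 291704994854626983266216973735310959, 23),
  (434328204007948598498461012624749205, 153480124968472438741454592454328492, 23),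
  (891128235592162180295978837862754501, 125006052860111435297168345452447918, 7),
  (609165238716718482069906714164368535, 21691142623591792225322706257725649, 7),
  (956709441910203461498593497208492130, 186030999333062919523598659140966822, 23),
  (980798401806566274455654461655243444, 540146255821190440663930736670531089, 23),
  (456973487716204245253907196648033415, 840479710392732499561255207495350454, 23),
  (20388192284121838010763701243761191, 930120978781208186142075089759909111, 23),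
  (310701796136528368708829362175727831, 610757315418406378492626355046560421, 23),
  (956302485175575353788796878166559809, 17080661152066128788646055461887716, 7),
  (544360194986021349716843622974001606, 648049016655299447778534222218043979, 7),
  (279666995301084573799938230752397989, 475935794425260723489733281584350794, 7),
  (482419119488086908251866214261851408, 106009070599407123758214810710417140, 7),
  (630116839875368399688685724322994696, 132872800435945851802710847527605856, 23),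
  (526475193483151018049148542612743732, 527805582988377223126522912282313742, 7),
  (732898560192635656792941653951850735, 56141877627208091182488781307631919, 23),
  (980798401806566274455654461655243444, 811512332205993728887707407898325428, 7),
  (609165238716718482069906714164368535, 195300085443973216167519423161666925, 5),
  (956302485175575353788796878166559809, 758875682323604108010890761258474112, 23),
  (460920701470342116762804706876760469, 635534174079488965547049921393951092, 7),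
  (688413706773751484851041384321554899, 551862880298108614765057284711651795, 23)]

/-- the check -/
def chkE (r : Rec) (w : ℕ × ℕ × ℕ) : Bool :=
  Nat.beq (pcomp w.1 w.2.1) r.c && (ok w.1 && (ok w.2.1 && (Nat.beq (ppw w.1 23) idP && (Nat.beq (ppw w.2.1 w.2.2) idP &&
    (Nat.beq (8855 % w.2.2) 0 && !(Nat.beq (papp w.1 0) 0 && Nat.beq (papp w.1 1) 1))))))

/-- the check of the list -/
def chkL : List Rec → List (ℕ × ℕ × ℕ) → Bool
  | [], [] => true
  | r :: D, w :: W => chkE r w && chkL D W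
  | _, _ => false

theorem exists_chkE : ∀ {D : List Rec} {W : List (ℕ × ℕ × ℕ)}, chkL D W = true → ∀ r ∈ D, ∃ w, chkE r w = true := by
  intro D
  induction D with
  | nil => intro W _ r hr; exact absurd hr List.not_mem_nil
  | cons r D ih =>
    intro W h s hs
    cases W with
    | nil => exact Bool.noConfusion h
    | cons w W =>
      have h1 : chkE r w = true ∧ chkL D W = true := by
        have h2 : (chkE r w && chkL D W) = true := h
        rwa [Bool.and_eq_true] at h2
      rcases List.mem_cons.1 hs with rfl | hs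
      · exact ⟨w, h1.1⟩
      · exact ih h1.2 s hs

theorem hW : chkL Cfsg.Agent.H334.Ore.M24Data.D W25 = true := by decide +kernel

/-- **every element of `M24` is `a * b`, `a` of order 23, `b` of order dividing `5 * 7 * 11 * 23`** -/
theorem all_M24_prod (u : M24) : ∃ a b : M24, a ^ 23 = 1 ∧ b ^ 8855 = 1 ∧ u = a * b ∧ a ≠ 1 := by
  rcases Cfsg.Agent.H334.Ore.M24R.cov u with rfl | ⟨r, hr, x, hx, hg⟩
  · obtain ⟨a, b, ha, hb, h, h1⟩ := two_M24_prod (u := (1 : M24)) (n := 0) (by simp)
    refine ⟨a, b, ha, ?_, h, h1⟩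
    rw [show 8855 = 23 * 385 by norm_num, pow_mul, hb, one_pow]
  · obtain ⟨w, hw⟩ := exists_chkE hW r hr
    unfold chkE at hw
    rw [Bool.and_eq_true, Bool.and_eq_true, Bool.and_eq_true, Bool.and_eq_true, Bool.and_eq_true, Bool.and_eq_true] at hw
    obtain ⟨h1, h2, h3, h4, h5, h6, h7⟩ := hw
    obtain ⟨c, hc⟩ := isConj_iff.1 hg
    have hx' : x = el r.c := hx
    have e1 := congrArg el (Nat.eq_of_beq_eq_true h1)
    have e2 := congrArg el (Nat.eq_of_beq_eq_true h4)
    have e3 := congrArg el (Nat.eq_of_beq_eq_true h5)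
    rw [(el_ppw h2 23).2, el_idP] at e2
    rw [(el_ppw h3 w.2.2).2, el_idP] at e3
    rw [el_pcomp h2 h3, ← hx'] at e1
    have e4 : (el w.2.1) ^ 8855 = 1 := by
      obtain ⟨k, hk⟩ := Nat.dvd_of_mod_eq_zero (Nat.eq_of_beq_eq_true h6)
      rw [hk, pow_mul, e3, one_pow]
    have hm : ∃ i < 24, papp w.1 i ≠ i := by
      by_contra hcon
      push Not at hcon
      rw [hcon 0 (by norm_num), hcon 1 (by norm_num)] at h7
      exact absurd h7 (by decide)
    refine ⟨c * el w.1 * c⁻¹, c * el w.2.1 * c⁻¹, by rw [conj_pow, e2]; group, by rw [conj_pow, e4]; group, ?_, ?_⟩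
    · rw [← hc, ← e1]; group
    · intro h
      apply el_ne h2 hm
      have : el w.1 = c⁻¹ * (c * el w.1 * c⁻¹) * c := by group
      rw [this, h]; group

end ExtAll

namespace MExt

variable {G : Type*} [Group G] [Finite G] {A N : Subgroup G} {π : N →* M24}

/-- a lift of an element of odd order -/
theorem liftOdd (H : MExt A N π) {a : M24} {m : ℕ} (hm : m % 2 = 1) (ha : a ^ m = 1) :
    ∃ a' : N, π a' = a ∧ (a' : G) ^ m = 1 := by
  obtain ⟨n, rfl⟩ := H.surj a
  obtain ⟨k, hk⟩ : 2 ∣ m + 1 := by omega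
  refine ⟨n ^ (m + 1), ?_, ?_⟩
  · rw [map_pow, pow_succ, ha, one_mul]
  · have h3 : π (n ^ m) = 1 := by rw [map_pow, ha]
    have h4 := H.sq _ ((H.ker _).1 h3)
    have h5 : (n : G) ^ (m * 2) = 1 := by
      rw [pow_mul, pow_two]
      exact h4
    rw [Subgroup.coe_pow, ← pow_mul, hk, show 2 * k * m = m * 2 * k by ring, pow_mul, h5, one_pow]

/-- **every element of `N` is a product of two elements of order 23 and dividing `5 * 7 * 11 * 23`** -/
theorem all_prod (H : MExt A N π) {g : G} (hg : g ∈ N) : ∃ a b : G, a ^ 23 = 1 ∧ b ^ 8855 = 1 ∧ g = a * b := by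
  obtain ⟨a, b, ha, hb, hab, ha1⟩ := ExtAll.all_M24_prod (π ⟨g, hg⟩)
  obtain ⟨a', rfl, ha'⟩ := H.liftOdd (m := 23) (by norm_num) ha
  obtain ⟨b', rfl, hb'⟩ := H.liftOdd (m := 8855) (by norm_num) hb
  have hv : g * ((a' * b' : N) : G)⁻¹ ∈ A := by
    have h1 := (H.ker (⟨g, hg⟩ * (a' * b')⁻¹)).1 (by rw [map_mul, map_inv, hab, map_mul, mul_inv_cancel])
    exact h1
  obtain ⟨x, hx, hxv⟩ := H.fill ha ha1 hv
  refine ⟨x * a' * x⁻¹, b', ?_, hb', ?_⟩
  · rw [conj_pow, ha']; group
  · calc g = g * ((a' * b' : N) : G)⁻¹ * ((a' * b' : N) : G) := by group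
      _ = x * ((a' : G) * x⁻¹ * (a' : G)⁻¹) * ((a' * b' : N) : G) := by rw [hxv]
      _ = _ := by push_cast; group

/-- **every element of `N` is `Pr m`, `m` prime to `5, 7, 11, 23`** -/
theorem all_pr (H : MExt A N π) {m : ℕ} (hm : Nat.Coprime 8855 m) {g : G} (hg : g ∈ N) : Cfsg.Agent.H78.Pw.Pr m g := by
  obtain ⟨a, b, ha, hb, h⟩ := H.all_prod hg
  refine ⟨a, b, h, Nat.Coprime.of_dvd_left (orderOf_dvd_of_pow_eq_one ha) ?_,
    Nat.Coprime.of_dvd_left (orderOf_dvd_of_pow_eq_one hb) hm⟩
  exact Nat.Coprime.of_dvd_left (by norm_num) hm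

end MExt

end Cfsg.Agent.H854.Ore
end
end
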