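import Cfsg.Agent.H860.JM.Defs
import Cfsg.Agent.H866.J4Facts
import Cfsg.Agent.H337.JankoOfIso
import Cfsg.Agent.OrdDiv.Table
import Cfsg.Agent.S0494
import Cfsg.Agent.S5572
import Cfsg.Agent.S5577
import Cfsg.Agent.S3035
import Cfsg.Agent.S0495
import Cfsg.Agent.S0497
import Cfsg.Agent.S0256
import Cfsg.Agent.H865.RhoEleven
import Cfsg.Agent.S5563
import Cfsg.Agent.S5564
import Cfsg.Agent.FastGrp
import Cfsg.Agent.Prune
set_option linter.all false

section
prune_inst 0x7f00000000000000000000000000000000000000000000000000000000000000000000000000000000000000000000000000000000000000000000000000000000000000000000000000000000000000003fffffffffffffffffffffffffffbeffbdffffffff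

-- part: H854/JM/List
section
set_option linter.all false
open scoped Cfsg.Agent.FastGrp

-- part: H854/JM/NonLocal
section
/-!
# S5580, Part III: the non-local maximal subgroups of `J4` are almost simple (helper854)

`nl_exists`: if a maximal subgroup `M` of `Spor.J4` has no nontrivial normal `p`-subgroup (for all primes `p`), then
`M = N(S)` with `S` nonabelian simple and `C(S) = 1` (`NL M S`), with the order in the list `J4Ord.ords`.
-/

set_option autoImplicit false

open Cfsg Subgroup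

namespace Cfsg.Agent.H854.JM.NonLocal

open Cfsg.Agent.OrdDiv Cfsg.Agent.H866 Cfsg.Agent.H866.J4Ord Cfsg.Agent.H866.J4Min

universe u

/-! ### minimal normal subgroups of a group whose order divides `|J4|` -/

/-- the proof of `J4Min.min_abstract` for a given minimal normal subgroup -/
theorem min_of (T : OrderTable.{u}) (hS : Known.{u}) {H : Type u} [Group H] [Finite H]
    (hd : Nat.card H ∣ nJ) (R : Subgroup H) [R.Normal] (hR : R ≠ ⊥)
    (hmin : ∀ M : Subgroup H, M.Normal → M ≤ R → M = ⊥ ∨ M = R) :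
      ((∃ r : ℕ, r.Prime ∧ IsElementaryAbelian r R) ∨
        (IsSimpleGroup R ∧ (¬ ∀ a b : R, a * b = b * a) ∧ Nat.card R ∈ ords)) := by
  obtain ⟨X, m, hXR, hXs, hm, ⟨e⟩⟩ := Lib.MinNormal.exists_mulEquiv_pi R hR hmin
  by_cases hab : ∀ a b : X, a * b = b * a
  · left
    have h1 : ∀ a b : R, a * b = b * a := by
      intro a b
      apply e.injective
      rw [map_mul, map_mul]
      funext i
      exact hab _ _
    obtain ⟨r, hr, -, hx⟩ := Lib.MinNormalNonabelian.abelian_structure R hR hmin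
      (fun x hx y hy => congrArg Subtype.val (h1 ⟨x, hx⟩ ⟨y, hy⟩))
    exact ⟨r, hr, ⟨⟨fun a b => h1 a b⟩⟩, hx⟩
  · right
    have h1 : Nat.card X ∣ nJ := (Subgroup.card_subgroup_dvd_card X).trans hd
    have h2 : Nat.card X ∈ ords := card_mem_ords T (hS X) hab h1
    have h3 : Nat.card R = Nat.card X ^ m := by
      rw [Nat.card_congr e.toEquiv, Nat.card_fun, Nat.card_eq_fintype_card (α := Fin m), Fintype.card_fin]
    have h4 : m = 1 := by
      by_contra hne
      apply ords_sq _ h2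
      have h5 : Nat.card X ^ 2 ∣ Nat.card R := by
        rw [h3]
        exact pow_dvd_pow _ (by omega)
      rw [← pow_two]
      exact (h5.trans (Subgroup.card_subgroup_dvd_card R)).trans hd
    subst h4
    have e2 : R ≃* X := e.trans (MulEquiv.funUnique (Fin 1) X)
    refine ⟨?_, ?_, ?_⟩
    · exact e2.isSimpleGroup_congr.2 hXs
    · intro h
      apply hab
      intro a b
      apply e2.symm.injective
      rw [map_mul, map_mul]
      exact h _ _
    · rw [h3, pow_one]
      exact h2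

/-- a nontrivial normal subgroup `C` of `M` contains a minimal normal subgroup of `M`, in ambient form -/
theorem exists_min_le (T : OrderTable.{u}) (hS : Known.{u}) {G : Type u} [Group G] [Finite G]
    (hd : Nat.card G ∣ nJ) (M C : Subgroup G) (hCM : C ≤ M) (hC : C ≠ ⊥) (hn : M ≤ normalizer (C : Set G)) :
    ∃ R : Subgroup G, R ≤ C ∧ R ≠ ⊥ ∧ M ≤ normalizer (R : Set G) ∧
      ((∃ r : ℕ, r.Prime ∧ IsElementaryAbelian r R) ∨
        (IsSimpleGroup R ∧ (¬ ∀ a b : R, a * b = b * a) ∧ Nat.card R ∈ ords)) := by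
  have hC' : (C.subgroupOf M) ≠ ⊥ := by
    intro h
    apply hC
    rw [← Subgroup.map_subgroupOf_eq_of_le hCM, h, Subgroup.map_bot]
  have hCn : (C.subgroupOf M).Normal := ⟨fun y hy g => by
    rw [mem_subgroupOf] at hy ⊢
    exact ((mem_normalizer_iff.1 (hn g.2)) _).1 hy⟩
  obtain ⟨R, hRn, hRC, hR, hmin⟩ := Lib.SubnormalJoin.exists_minimal_normal_le (C.subgroupOf M) hCn hC'
  have h := min_of T hS ((Subgroup.card_subgroup_dvd_card M).trans hd) R hR hmin
  have e : R ≃* R.map M.subtype := R.equivMapOfInjective _ M.subtype_injective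
  refine ⟨R.map M.subtype, ?_, ?_, ?_, ?_⟩
  · rintro _ ⟨r, hr, rfl⟩
    exact mem_subgroupOf.1 (hRC hr)
  · intro h0
    apply hR
    rwa [Subgroup.map_eq_bot_iff_of_injective _ M.subtype_injective] at h0
  · intro x hx
    rw [mem_normalizer_iff]
    intro y
    constructor
    · rintro ⟨r, hr, rfl⟩
      exact ⟨⟨x, hx⟩ * r * ⟨x, hx⟩⁻¹, hRn.conj_mem r hr _, rfl⟩
    · rintro ⟨r, hr, he⟩
      refine ⟨⟨x, hx⟩⁻¹ * r * ⟨x, hx⟩, ?_, ?_⟩
      · have := hRn.conj_mem r hr (⟨x, hx⟩⁻¹ : M)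
        rwa [inv_inv] at this
      · have h1 : (r : G) = x * y * x⁻¹ := he
        change x⁻¹ * (r : G) * x = y
        rw [h1]
        group
  · rcases h with ⟨r, hr, h⟩ | ⟨h1, h2, h3⟩
    · left
      refine ⟨r, hr, ⟨⟨?_⟩⟩, ?_⟩
      · intro a b
        obtain ⟨a, rfl⟩ := e.surjective a
        obtain ⟨b, rfl⟩ := e.surjective b
        rw [← map_mul, ← map_mul, h.1.is_comm.comm a b]
      · rintro _ ⟨x, hx, rfl⟩
        rw [← map_pow, h.2 x hx, map_one]
    · right
      refine ⟨e.symm.isSimpleGroup_congr.2 h1, ?_, ?_⟩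
      · intro h
        apply h2
        intro a b
        apply e.injective
        rw [map_mul, map_mul]
        exact h _ _
      · rwa [← Nat.card_congr e.toEquiv]

/-! ### two commuting simple subgroups -/

/-- `A` and `P` commute and meet trivially: `|A| |P|` divides `|C|` -/
theorem card_mul_dvd {G : Type*} [Group G] [Finite G] {A P C : Subgroup G} (hA : A ≤ C) (hP : P ≤ C)
    (hc : ∀ a ∈ A, ∀ b ∈ P, a * b = b * a) (h : A ⊓ P = ⊥) : Nat.card A * Nat.card P ∣ Nat.card C := by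
  let f : A × P →* C := MonoidHom.noncommCoprod (Subgroup.inclusion hA) (Subgroup.inclusion hP)
    (fun a b => Subtype.ext (hc a a.2 b b.2))
  have hf : Function.Injective f := by
    rw [injective_iff_map_eq_one]
    rintro ⟨a, b⟩ h1
    have h2 : (a : G) * (b : G) = 1 := congrArg Subtype.val h1
    have h3 : (a : G) = (b : G)⁻¹ := eq_inv_of_mul_eq_one_left h2
    have h4 : (a : G) ∈ A ⊓ P := ⟨a.2, h3 ▸ P.inv_mem b.2⟩
    rw [h, Subgroup.mem_bot] at h4
    have h5 : (b : G) = 1 := by rw [h4, one_mul] at h2; exact h2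
    exact Prod.ext (Subtype.ext h4) (Subtype.ext h5)
  have h1 := Subgroup.card_dvd_of_injective f hf
  rwa [Nat.card_prod] at h1

/-- a simple nonabelian group has no nontrivial abelian normal part: `S ⊓ C(S) = 1` -/
theorem inf_cent {G : Type*} [Group G] {S : Subgroup G} [IsSimpleGroup S] (hna : ¬ ∀ a b : S, a * b = b * a) :
    S ⊓ centralizer (S : Set G) = ⊥ := by
  have h : center S = ⊥ ∨ center S = ⊤ := IsSimpleGroup.eq_bot_or_eq_top_of_normal _ inferInstance
  rcases h with h | h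
  · rw [eq_bot_iff]
    rintro x ⟨hx, hc⟩
    have h1 : (⟨x, hx⟩ : S) ∈ center S := by
      rw [mem_center_iff]
      intro y
      exact Subtype.ext (mem_centralizer_iff.1 hc y y.2)
    rw [h, Subgroup.mem_bot] at h1
    rw [Subgroup.mem_bot]
    exact congrArg Subtype.val h1
  · exact absurd (fun a b => by
      have : b ∈ center S := h ▸ mem_top b
      exact mem_center_iff.1 this a) hna

/-! ### the facts on `J4` used here -/

/-- centralizers of the subgroups of prime order, and the structure of `C(5)` -/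
structure Cents (G : Type u) [Group G] [Finite G] : Prop where
  dvd : Nat.card G = nJ
  c5 : ∀ Q : Subgroup G, Nat.card Q = 5 → Nat.card (centralizer (Q : Set G)) = 6720
  c7 : ∀ Q : Subgroup G, Nat.card Q = 7 → Nat.card (centralizer (Q : Set G)) = 840
  cp : ∀ p ∈ [23, 29, 31, 37, 43], ∀ Q : Subgroup G, Nat.card Q = p → Nat.card (centralizer (Q : Set G)) = p
  no : ∀ A B : Subgroup G, Nat.card A = 60 → Nat.card B = 168 → IsSimpleGroup B →
    (∀ a ∈ A, ∀ b ∈ B, a * b = b * a) → False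

variable {G : Type u} [Group G] [Finite G]

/-- the order of a simple group commuting with a simple group -/
theorem Cents.step (F : Cents G) {A B : Subgroup G} (hA : Nat.card A ∈ ords) (hB : Nat.card B ∈ ords)
    (hc : ∀ a ∈ A, ∀ b ∈ B, a * b = b * a) (h : A ⊓ B = ⊥) :
    (5 ∣ Nat.card A ∧ Nat.card B = 168) ∨ (7 ∣ Nat.card A ∧ Nat.card B = 60) := by
  obtain ⟨p, hp, hpd⟩ := ords_fst _ hA
  have hpp : p.Prime := by
    simp only [List.mem_cons, List.not_mem_nil, or_false] at hp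
    rcases hp with rfl | rfl | rfl | rfl | rfl | rfl | rfl <;> norm_num
  have : Fact p.Prime := ⟨hpp⟩
  obtain ⟨x, hx⟩ := exists_prime_orderOf_dvd_card' (G := A) p hpd
  have hP : Nat.card (Subgroup.zpowers (x : G)) = p := by rw [Nat.card_zpowers, Subgroup.orderOf_coe, hx]
  have hPA : Subgroup.zpowers (x : G) ≤ A := Subgroup.zpowers_le.2 x.2
  have h1 : B ≤ centralizer ((Subgroup.zpowers (x : G) : Subgroup G) : Set G) := by
    intro b hb
    rw [mem_centralizer_iff]
    intro a ha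
    exact hc a (hPA ha) b hb
  have h2 : Subgroup.zpowers (x : G) ≤ centralizer ((Subgroup.zpowers (x : G) : Subgroup G) : Set G) := by
    intro b hb
    rw [mem_centralizer_iff]
    intro a ha
    obtain ⟨i, rfl⟩ := Subgroup.mem_zpowers_iff.1 ha
    obtain ⟨j, rfl⟩ := Subgroup.mem_zpowers_iff.1 hb
    rw [← zpow_add, ← zpow_add, add_comm]
  have h3 : B ⊓ Subgroup.zpowers (x : G) = ⊥ := by
    rw [eq_bot_iff, ← h, inf_comm A B]
    exact inf_le_inf_left _ hPA
  have h4 := card_mul_dvd h1 h2 (fun b hb a ha => (hc a (hPA ha) b hb).symm) h3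
  rw [hP] at h4
  simp only [List.mem_cons, List.not_mem_nil, or_false] at hp
  have key : ∀ n ∈ ords, (∀ m ∈ [23, 29, 31, 37, 43], ¬ n * m ∣ m) ∧ (n * 5 ∣ 6720 → n = 168) ∧
      (n * 7 ∣ 840 → n = 60) := by decide +kernel
  obtain ⟨k1, k2, k3⟩ := key _ hB
  rcases hp with rfl | rfl | rfl | rfl | rfl | rfl | rfl
  · exact Or.inl ⟨hpd, k2 (F.c5 _ hP ▸ h4)⟩
  · exact Or.inr ⟨hpd, k3 (F.c7 _ hP ▸ h4)⟩
  · exact absurd (F.cp 23 (by simp) _ hP ▸ h4) (k1 23 (by simp))
  · exact absurd (F.cp 29 (by simp) _ hP ▸ h4) (k1 29 (by simp))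
  · exact absurd (F.cp 31 (by simp) _ hP ▸ h4) (k1 31 (by simp))
  · exact absurd (F.cp 37 (by simp) _ hP ▸ h4) (k1 37 (by simp))
  · exact absurd (F.cp 43 (by simp) _ hP ▸ h4) (k1 43 (by simp))

/-- there are no two commuting nonabelian simple subgroups -/
theorem Cents.no_two (F : Cents G) {A B : Subgroup G} (hA : Nat.card A ∈ ords) (hB : Nat.card B ∈ ords)
    (sA : IsSimpleGroup A) (sB : IsSimpleGroup B)
    (hc : ∀ a ∈ A, ∀ b ∈ B, a * b = b * a) (h : A ⊓ B = ⊥) : False := by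
  have h1 := F.step hA hB hc h
  have h2 := F.step hB hA (fun a ha b hb => (hc b hb a ha).symm) (by rw [inf_comm]; exact h)
  rcases h1 with ⟨h3, h4⟩ | ⟨h3, h4⟩
  · rcases h2 with ⟨h5, h6⟩ | ⟨h5, h6⟩
    · rw [h4] at h5
      norm_num at h5
    · exact F.no A B h6 h4 sB hc
  · rcases h2 with ⟨h5, h6⟩ | ⟨h5, h6⟩
    · exact F.no B A h4 h6 sA (fun b hb a ha => (hc a ha b hb).symm)
    · rw [h4] at h5
      norm_num at h5

/-- **A maximal subgroup without normal `p`-subgroups is almost simple with `C(S) = 1`.** -/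
theorem Cents.exists_simple (F : Cents G) (T : OrderTable.{u}) (hS : Known.{u}) [IsSimpleGroup G]
    (hG : ¬ IsMulCommutative G) {M : Subgroup G} (hM : IsCoatom M)
    (hloc : ∀ p : ℕ, p.Prime → ∀ R : Subgroup G, R ≤ M → IsPGroup p R → M ≤ normalizer (R : Set G) → R = ⊥) :
    ∃ S : Subgroup G, S ≤ M ∧ M ≤ normalizer (S : Set G) ∧ IsSimpleGroup S ∧ (¬ IsMulCommutative S) ∧
      centralizer (S : Set G) = ⊥ ∧ Nat.card S ∈ ords := by
  have hd : Nat.card G ∣ nJ := F.dvd.dvd
  have hMb : M ≠ ⊥ := by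
    rintro rfl
    apply hG
    have h1 : ∀ x : G, x ≠ 1 → Subgroup.zpowers x = ⊤ := fun x hx => hM.2 _ (by
      rw [bot_lt_iff_ne_bot]
      intro h
      exact hx (by rwa [Subgroup.zpowers_eq_bot] at h))
    refine ⟨⟨fun a b => ?_⟩⟩
    by_cases ha : a = 1
    · rw [ha, one_mul, mul_one]
    · have h2 : b ∈ Subgroup.zpowers a := h1 a ha ▸ mem_top b
      obtain ⟨j, rfl⟩ := Subgroup.mem_zpowers_iff.1 h2
      rw [← zpow_one_add, ← zpow_add_one, add_comm]
  have hp : ∀ r : ℕ, r.Prime → ∀ R : Subgroup G, R ≤ M → R ≠ ⊥ → M ≤ normalizer (R : Set G) →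
      ¬ IsElementaryAbelian r R := by
    intro r hr R hRM hR hn he
    exact hR (hloc r hr R hRM (fun x => ⟨1, by rw [pow_one]; exact Subtype.ext (he.2 x x.2)⟩) hn)
  obtain ⟨S, hSM, hSb, hSn, h⟩ := exists_min_le T hS hd M M le_rfl hMb Subgroup.le_normalizer
  rcases h with ⟨r, hr, he⟩ | ⟨sS, hna, hord⟩
  · exact absurd he (hp r hr S hSM hSb hSn)
  have hnot : ∀ R : Subgroup G, R ≤ M → R ≠ ⊥ → M ≤ normalizer (R : Set G) → M = normalizer (R : Set G) := by
    intro R hRM hR hn
    refine le_antisymm hn ?_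
    by_contra hlt
    have h1 : M < normalizer (R : Set G) := lt_of_le_of_ne hn fun h => hlt (h ▸ le_rfl)
    have h2 := hM.2 _ h1
    have h3 : R.Normal := Subgroup.normalizer_eq_top_iff.1 h2
    rcases h3.eq_bot_or_eq_top with h4 | h4
    · exact hR h4
    · exact hM.1 (top_le_iff.1 (h4 ▸ hRM))
  have hMS := hnot S hSM hSb hSn
  refine ⟨S, hSM, hSn, sS, fun h => hna fun a b => h.is_comm.comm a b, ?_, hord⟩
  by_contra hC
  have hCM : centralizer (S : Set G) ≤ M := by
    rw [hMS]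
    exact Subgroup.centralizer_le_normalizer _
  have hCn : M ≤ normalizer ((centralizer (S : Set G) : Subgroup G) : Set G) := by
    intro x hx
    have hx1 := hSn hx
    rw [mem_normalizer_iff] at hx1 ⊢
    intro y
    constructor
    · intro hy
      rw [mem_centralizer_iff] at hy ⊢
      intro s hs
      have h1 := hy (x⁻¹ * s * x) (by
        have := (hx1 (x⁻¹ * s * x)).2
        apply this
        have h2 : x * (x⁻¹ * s * x) * x⁻¹ = s := by group
        rw [h2]
        exact hs)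
      have h3 : s * (x * y * x⁻¹) = x * ((x⁻¹ * s * x) * y) * x⁻¹ := by group
      have h4 : x * y * x⁻¹ * s = x * (y * (x⁻¹ * s * x)) * x⁻¹ := by group
      rw [h3, h4, h1]
    · intro hy
      rw [mem_centralizer_iff] at hy ⊢
      intro s hs
      have h1 := hy (x * s * x⁻¹) ((hx1 s).1 hs)
      have h3 : s * y = x⁻¹ * ((x * s * x⁻¹) * (x * y * x⁻¹)) * x := by group
      have h4 : y * s = x⁻¹ * ((x * y * x⁻¹) * (x * s * x⁻¹)) * x := by group
      rw [h3, h4, h1]
  obtain ⟨R, hRC, hR, hRn, h⟩ := exists_min_le T hS hd M _ hCM hC hCn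
  rcases h with ⟨r, hr, he⟩ | ⟨sR, hna', hord'⟩
  · exact absurd he (hp r hr R (hRC.trans hCM) hR hRn)
  refine F.no_two hord hord' sS sR (fun a ha b hb => mem_centralizer_iff.1 (hRC hb) a ha) ?_
  rw [eq_bot_iff, ← inf_cent hna]
  exact inf_le_inf_left _ hRC

end Cfsg.Agent.H854.JM.NonLocal
end

-- part: H854/JM/Cents
section
/-!
# The centralizers of the elements of prime order of a group of Janko-four type: `Cents G` (helper854)
-/

set_option autoImplicit false

open Cfsg Subgroup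

namespace Cfsg.Agent.H854.JM.NonLocal

open Cfsg.Agent.OrdDiv Cfsg.Agent.H866 Cfsg.Agent.H866.J4Ord Cfsg.Agent.H866.J4Min
open Cfsg.Agent.S3035 (card_sl)

universe u

theorem exists_mul {G : Type*} [Group G] {Q J C : Subgroup G} (h : IsInternalDirectProduct Q J C) :
    ∀ c ∈ C, ∃ q ∈ Q, ∃ j ∈ J, c = q * j := by
  obtain ⟨h1, h2, h3, h4, h5⟩ := h
  intro c hc
  rw [← h5, Subgroup.sup_eq_closure] at hc
  induction hc using Subgroup.closure_induction with
  | mem x hx =>
    rcases hx with hx | hx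
    · exact ⟨x, hx, 1, J.one_mem, by rw [mul_one]⟩
    · exact ⟨1, Q.one_mem, x, hx, by rw [one_mul]⟩
  | one => exact ⟨1, Q.one_mem, 1, J.one_mem, by rw [one_mul]⟩
  | mul x y _ _ ihx ihy =>
    obtain ⟨q, hq, j, hj, rfl⟩ := ihx
    obtain ⟨q', hq', j', hj', rfl⟩ := ihy
    refine ⟨q * q', Q.mul_mem hq hq', j * j', J.mul_mem hj hj', ?_⟩
    have h7 := h3 q' hq' j hj
    calc q * j * (q' * j') = q * (j * q') * j' := by group
      _ = q * (q' * j) * j' := by rw [h7]
      _ = q * q' * (j * j') := by group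
  | inv x _ ih =>
    obtain ⟨q, hq, j, hj, rfl⟩ := ih
    refine ⟨q⁻¹, Q.inv_mem hq, j⁻¹, J.inv_mem hj, ?_⟩
    have h7 := h3 q⁻¹ (Q.inv_mem hq) j⁻¹ (J.inv_mem hj)
    rw [h7, mul_inv_rev]

/-- in an internal direct product `C = Q × J` with `Q` abelian a simple nonabelian subgroup is in `J` -/
theorem le_of_direct {G : Type*} [Group G] {Q J C B : Subgroup G} (h : IsInternalDirectProduct Q J C)
    (hQ : ∀ a ∈ Q, ∀ b ∈ Q, a * b = b * a) (hB : B ≤ C) [IsSimpleGroup B] (hna : ¬ ∀ a b : B, a * b = b * a) :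
    B ≤ J := by
  have h6 := exists_mul h
  obtain ⟨h1, h2, h3, h4, h5⟩ := h
  -- commutators are in `J`
  have h7 : ∀ c ∈ C, ∀ d ∈ C, c * d * c⁻¹ * d⁻¹ ∈ J := by
    intro c hc d hd
    obtain ⟨q, hq, j, hj, rfl⟩ := h6 c hc
    obtain ⟨r, hr, k, hk, rfl⟩ := h6 d hd
    have e1 := h3 q hq j hj
    have e2 := h3 r hr k hk
    have e3 := h3 q hq k hk
    have e4 := h3 r hr j hj
    have e5 := hQ q hq r hr
    have h8 : q * j * (r * k) = r * k * (q * j) * (j⁻¹ * k⁻¹ * j * k) := by
      calc q * j * (r * k) = q * (j * r) * k := by group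
        _ = q * (r * j) * k := by rw [e4]
        _ = (q * r) * (j * k) := by group
        _ = (r * q) * (j * k) := by rw [e5]
        _ = r * (q * k) * (j * (j⁻¹ * k⁻¹ * j * k)) := by group
        _ = r * (k * q) * (j * (j⁻¹ * k⁻¹ * j * k)) := by rw [e3]
        _ = r * k * (q * j) * (j⁻¹ * k⁻¹ * j * k) := by group
    have h9 : q * j * (r * k) * (q * j)⁻¹ * (r * k)⁻¹ =
        (r * k * (q * j)) * (j⁻¹ * k⁻¹ * j * k) * (r * k * (q * j))⁻¹ := by
      rw [h8]
      group
    rw [h9]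
    have hJn : ∀ c ∈ C, ∀ x ∈ J, c * x * c⁻¹ ∈ J := by
      intro c hc x hx
      obtain ⟨q, hq, j, hj, rfl⟩ := h6 c hc
      have h10 : q * j * x * (q * j)⁻¹ = j * x * j⁻¹ := by
        have h11 := h3 q hq (j * x * j⁻¹) (J.mul_mem (J.mul_mem hj hx) (J.inv_mem hj))
        calc q * j * x * (q * j)⁻¹ = q * (j * x * j⁻¹) * q⁻¹ := by group
          _ = (j * x * j⁻¹) * q * q⁻¹ := by rw [h11]
          _ = j * x * j⁻¹ := by group
      rw [h10]
      exact J.mul_mem (J.mul_mem hj hx) (J.inv_mem hj)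
    exact hJn _ (C.mul_mem (C.mul_mem (h1 hr) (h2 hk)) (C.mul_mem (h1 hq) (h2 hj))) _
      (J.mul_mem (J.mul_mem (J.mul_mem (J.inv_mem hj) (J.inv_mem hk)) hj) hk)
  -- the simple group
  have h8 : (J.subgroupOf B).Normal := by
    refine ⟨fun x hx g => ?_⟩
    rw [mem_subgroupOf] at hx ⊢
    have h9 := h7 g (hB g.2) x (hB x.2)
    have h10 := J.mul_mem h9 hx
    have h11 : (g : G) * x * (g : G)⁻¹ * (x : G)⁻¹ * x = ((g * x * g⁻¹ : B) : G) := by
      push_cast
      group
    rwa [h11] at h10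
  rcases h8.eq_bot_or_eq_top with h9 | h9
  · exfalso
    apply hna
    intro a b
    have h10 : (a * b * a⁻¹ * b⁻¹ : B) ∈ J.subgroupOf B := by
      rw [mem_subgroupOf]
      exact h7 a (hB a.2) b (hB b.2)
    rw [h9, Subgroup.mem_bot] at h10
    exact mul_inv_eq_one.1 (by rw [mul_inv_rev, ← mul_assoc]; exact h10)
  · exact subgroupOf_eq_top.1 h9

theorem card_direct {G : Type*} [Group G] [Finite G] {Q J C : Subgroup G} (h : IsInternalDirectProduct Q J C) :
    Nat.card C = Nat.card Q * Nat.card J := by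
  have h6 := exists_mul h
  obtain ⟨h1, h2, h3, h4, h5⟩ := h
  refine Nat.dvd_antisymm ?_ (card_mul_dvd h1 h2 h3 h4)
  let f : Q × J →* C := MonoidHom.noncommCoprod (Subgroup.inclusion h1) (Subgroup.inclusion h2)
    (fun a b => Subtype.ext (h3 a a.2 b b.2))
  have hf : Function.Surjective f := by
    rintro ⟨c, hc⟩
    obtain ⟨q, hq, j, hj, rfl⟩ := h6 c hc
    exact ⟨(⟨q, hq⟩, ⟨j, hj⟩), rfl⟩
  have h7 := Subgroup.card_dvd_of_surjective f hf
  rwa [Nat.card_prod] at h7

/-- the nonsplit extension `2^3.L_3(2)` contains no simple group of order 168 -/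
theorem no_168 {G : Type*} [Group G] [Finite G] {J B : Subgroup G} (hBJ : B ≤ J) [IsSimpleGroup B]
    (hB : Nat.card B = 168) {E : Subgroup J} [E.Normal] (hE : Nat.card E = 8)
    (hJE : Nonempty (J ⧸ E ≃* Matrix.SpecialLinearGroup (Fin 3) (ZMod 2)))
    (hno : ∀ K : Subgroup J, ¬ E.IsComplement' K) : False := by
  have hJ : Nat.card J = 8 * 168 := by
    rw [Subgroup.card_eq_card_quotient_mul_card_subgroup E, hE, Nat.card_congr hJE.some.toEquiv, card_sl, mul_comm]
  have e : (B.subgroupOf J) ≃* B := Subgroup.subgroupOfEquivOfLe hBJ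
  have hK : Nat.card (B.subgroupOf J) = 168 := by rw [Nat.card_congr e.toEquiv, hB]
  have hs : IsSimpleGroup (B.subgroupOf J) := e.isSimpleGroup_congr.2 inferInstance
  refine hno (B.subgroupOf J) (Subgroup.isComplement'_of_card_mul_and_disjoint (by rw [hE, hK, hJ]) ?_)
  rw [disjoint_iff]
  have hn : (E.subgroupOf (B.subgroupOf J)).Normal := inferInstance
  rcases hn.eq_bot_or_eq_top with h | h
  · rw [Subgroup.subgroupOf_eq_bot] at h
    exact h.eq_bot
  · rw [Subgroup.subgroupOf_eq_top] at h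
    have h1 := Subgroup.card_dvd_of_le h
    rw [hE, hK] at h1
    norm_num at h1

/-- conjugates of subgroups of prime order `p`, `p ^ 2 ∤ |G|` -/
theorem conj_of_prime {G : Type*} [Group G] [Finite G] (hG : Nat.card G = nJ) {p : ℕ} [Fact p.Prime]
    (hp : ¬ p ^ 2 ∣ nJ) {P Q : Subgroup G} (hP : Nat.card P = p) (hQ : Nat.card Q = p) :
    ∃ g : G, Q = P.map (MulAut.conj g).toMonoidHom := by
  obtain ⟨S1, hS1⟩ := J4OddEnd.exists_sylow_eq hG (p := p) (n := 1) hp (P := Q) (by rw [hQ, pow_one])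
  obtain ⟨S2, hS2⟩ := J4OddEnd.exists_sylow_eq hG (p := p) (n := 1) hp (P := P) (by rw [hP, pow_one])
  obtain ⟨g, hg⟩ := MulAction.exists_smul_eq G S2 S1
  exact ⟨g, by rw [← hS1, ← hg, Sylow.coe_subgroup_smul, hS2]; rfl⟩

theorem cents {G : Type u} [Group G] [Finite G] [IsSimpleGroup G] (T : OrderTable.{u}) (hS : Known.{u})
    (hG : ¬ IsMulCommutative G) (hJ : IsOfJankoFourType G) : Cents G := by
  have F := J4Facts.facts T hS hG hJ
  have f5 : Fact (Nat.Prime 5) := ⟨by norm_num⟩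
  obtain ⟨z, hz⟩ := id hJ
  have hC5 : 5 ∣ Nat.card (centralizer ({z} : Set G)) := by
    rw [(H821.J4MaxB.facts hz).card_cent]
    norm_num
  obtain ⟨y, hy⟩ := exists_prime_orderOf_dvd_card' (G := centralizer ({z} : Set G)) 5 hC5
  have hY : Nat.card (Subgroup.zpowers (y : G)) = 5 := by rw [Nat.card_zpowers, Subgroup.orderOf_coe, hy]
  have hYC : Subgroup.zpowers (y : G) ≤ centralizer ({z} : Set G) := Subgroup.zpowers_le.2 y.2
  have hYab : ∀ a ∈ Subgroup.zpowers (y : G), ∀ b ∈ Subgroup.zpowers (y : G), a * b = b * a := by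
    intro a ha b hb
    obtain ⟨i, rfl⟩ := Subgroup.mem_zpowers_iff.1 ha
    obtain ⟨j, rfl⟩ := Subgroup.mem_zpowers_iff.1 hb
    rw [← zpow_add, ← zpow_add, add_comm]
  obtain ⟨-, ⟨J, hdir, E, hEn, hE2, hE8, hJE, hno⟩, -, -⟩ := S5572.result hG z hz _ hY hYC
  have hJc : Nat.card J = 8 * 168 := by
    rw [Subgroup.card_eq_card_quotient_mul_card_subgroup E, hE8, Nat.card_congr hJE.some.toEquiv, card_sl, mul_comm]
  have hconj := fun (Q : Subgroup G) (hQ : Nat.card Q = 5) =>
    conj_of_prime F.card (p := 5) (by norm_num [nJ]) hY hQ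
  refine { dvd := F.card, c5 := ?_, c7 := ?_, cp := ?_, no := ?_ }
  · intro Q hQ
    obtain ⟨g, rfl⟩ := hconj Q hQ
    rw [J4OddEnd.map_conj_cent, Subgroup.card_map_of_injective (MulAut.conj g).injective, card_direct hdir, hY, hJc]
  · intro Q hQ
    obtain ⟨h1, h2⟩ := F.n7 Q hQ
    omega
  · intro p hp Q hQ
    have hpp : p.Prime ∧ ¬ p ^ 2 ∣ nJ := by
      simp only [List.mem_cons, List.not_mem_nil, or_false] at hp
      rcases hp with rfl | rfl | rfl | rfl | rfl <;> exact ⟨by norm_num, by norm_num [nJ]⟩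
    have : Fact p.Prime := ⟨hpp.1⟩
    obtain ⟨U, hU⟩ := J4OddEnd.exists_sylow_eq F.card (p := p) (n := 1) hpp.2 (P := Q) (by rw [hQ, pow_one])
    obtain ⟨s1, s2, s3, s4, s5⟩ := S5577.result hG hJ
    have key : centralizer ((U : Subgroup G) : Set G) = (U : Subgroup G) := by
      simp only [List.mem_cons, List.not_mem_nil, or_false] at hp
      rcases hp with rfl | rfl | rfl | rfl | rfl
      · exact (s1 U).1
      · exact (s2 U).1
      · exact (s3 U).1
      · exact (s4 U).1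
      · exact (s5 U).1
    rw [← hU, key, hU, hQ]
  · intro A B hA hB sB hc
    obtain ⟨x, hx⟩ := exists_prime_orderOf_dvd_card' (G := A) 5 (by rw [hA]; norm_num)
    have hX : Nat.card (Subgroup.zpowers (x : G)) = 5 := by rw [Nat.card_zpowers, Subgroup.orderOf_coe, hx]
    obtain ⟨g, hg⟩ := hconj _ hX
    -- conjugate back
    have hg' : (Subgroup.zpowers (x : G)).map (MulAut.conj g⁻¹).toMonoidHom = Subgroup.zpowers (y : G) := by
      rw [hg, Subgroup.map_map]
      have : ((MulAut.conj g⁻¹).toMonoidHom.comp (MulAut.conj g).toMonoidHom : G →* G) = MonoidHom.id G := by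
        ext w
        show g⁻¹ * (g * w * g⁻¹) * g⁻¹⁻¹ = w
        group
      rw [this, Subgroup.map_id]
    have hBC : B.map (MulAut.conj g⁻¹).toMonoidHom ≤ centralizer ((Subgroup.zpowers (y : G) : Subgroup G) : Set G) := by
      rw [← hg', J4OddEnd.map_conj_cent]
      refine Subgroup.map_mono fun b hb => mem_centralizer_iff.2 fun a ha => ?_
      exact hc a ((Subgroup.zpowers_le.2 x.2 : Subgroup.zpowers (x : G) ≤ A) ha) b hb
    have e : B ≃* B.map (MulAut.conj g⁻¹).toMonoidHom := B.equivMapOfInjective _ (MulAut.conj g⁻¹).injective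
    have sB' : IsSimpleGroup (B.map (MulAut.conj g⁻¹).toMonoidHom) := e.symm.isSimpleGroup_congr.2 sB
    have hB' : Nat.card (B.map (MulAut.conj g⁻¹).toMonoidHom) = 168 := by rw [← Nat.card_congr e.toEquiv, hB]
    have hnaB : ¬ ∀ a b : B.map (MulAut.conj g⁻¹).toMonoidHom, a * b = b * a := by
      intro h
      exact Classification.SimpleIndex.not_comm_of_not_prime (G := B.map (MulAut.conj g⁻¹).toMonoidHom)
        (by rw [hB']; norm_num) ⟨⟨h⟩⟩
    exact no_168 (le_of_direct hdir hYab hBC hnaB) hB' hE8 hJE hno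

end Cfsg.Agent.H854.JM.NonLocal
end

-- part: H854/JM/Excl
section
/-!
# S5580, Part III: `PSL₂(q)` with `7 ∣ q - 1` and `PSL₂(31)` are not subgroups of `J4` (helper854)
-/

set_option autoImplicit false

open Cfsg Subgroup

namespace Cfsg.Agent.H854.JM.NonLocal

open Cfsg.Agent.OrdDiv Cfsg.Agent.H866 Cfsg.Agent.H866.J4Ord Cfsg.Agent.H866.J4Min
open Matrix

universe u

section sl

variable {F : Type*} [Field F]

/-- `diag(a, a⁻¹)` -/
def dg (a : Fˣ) : SpecialLinearGroup (Fin 2) F := ⟨!![(a : F), 0; 0, ((a⁻¹ : Fˣ) : F)], by simp [Matrix.det_fin_two]⟩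

/-- `[0, 1; -1, 0]` -/
def ww : SpecialLinearGroup (Fin 2) F := ⟨!![0, 1; -1, 0], by simp [Matrix.det_fin_two]⟩

/-- `[1, b; 0, 1]` -/
def uu (b : F) : SpecialLinearGroup (Fin 2) F := ⟨!![1, b; 0, 1], by simp [Matrix.det_fin_two]⟩

theorem mulv (x y : SpecialLinearGroup (Fin 2) F) : (x * y).1 = x.1 * y.1 := rfl

theorem dg_mul (a b : Fˣ) : dg (a * b) = dg a * dg b := by
  apply Subtype.ext
  rw [mulv]
  simp only [dg, Matrix.mul_fin_two]
  simp [mul_comm]

theorem dg_one : dg (1 : Fˣ) = 1 := by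
  apply Subtype.ext
  change !![((1 : Fˣ) : F), 0; 0, (((1 : Fˣ)⁻¹ : Fˣ) : F)] = (1 : Matrix (Fin 2) (Fin 2) F)
  rw [Matrix.one_fin_two]
  simp

/-- `dg` as a homomorphism -/
def dgHom : Fˣ →* SpecialLinearGroup (Fin 2) F where
  toFun := dg
  map_one' := dg_one
  map_mul' := dg_mul

theorem uu_add (a b : F) : uu (a + b) = uu a * uu b := by
  apply Subtype.ext
  rw [mulv]
  simp only [uu, Matrix.mul_fin_two]
  simp [add_comm]

theorem uu_zero : uu (0 : F) = 1 := by
  apply Subtype.ext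
  change !![(1 : F), 0; 0, 1] = (1 : Matrix (Fin 2) (Fin 2) F)
  rw [Matrix.one_fin_two]

theorem uu_pow (b : F) (n : ℕ) : uu b ^ n = uu (n * b) := by
  induction n with
  | zero => rw [pow_zero, Nat.cast_zero, zero_mul, uu_zero]
  | succ n ih =>
    rw [pow_succ, ih, ← uu_add]
    congr 1
    push_cast
    ring

theorem ww_dg (a : Fˣ) : ww * dg a = dg a⁻¹ * ww := by
  apply Subtype.ext
  rw [mulv, mulv]
  simp only [dg, ww, Matrix.mul_fin_two]
  simp

theorem dg_uu (a : Fˣ) (b : F) : dg a * uu b = uu ((a : F) ^ 2 * b) * dg a := by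
  apply Subtype.ext
  rw [mulv, mulv]
  simp only [dg, uu, Matrix.mul_fin_two]
  have h : (a : F) * b = (a : F) ^ 2 * b * ((a⁻¹ : Fˣ) : F) := by
    rw [Units.val_inv_eq_inv_val]
    field_simp
  simp only [mul_one, mul_zero, zero_mul, add_zero, zero_add, one_mul]
  rw [← h]

/-- a central element of `SL₂` is diagonal, with equal entries -/
theorem center_apply {x : SpecialLinearGroup (Fin 2) F} (hx : x ∈ center (SpecialLinearGroup (Fin 2) F)) :
    x.1 0 1 = 0 ∧ x.1 0 0 = x.1 1 1 := by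
  rw [Matrix.SpecialLinearGroup.mem_center_iff] at hx
  obtain ⟨r, -, h⟩ := hx
  rw [← h]
  simp

end sl

/-- `g` normalizes `P`, `g ^ k` centralizes `P`, `k` is prime to `|N(P) : C(P)|` -/
theorem mem_cent_of_coprime {G : Type*} [Group G] [Finite G] {P : Subgroup G} {m k : ℕ}
    (hm : Nat.card (normalizer (P : Set G)) = m * Nat.card (centralizer (P : Set G))) {g : G}
    (hg : g ∈ normalizer (P : Set G)) (hk : g ^ k ∈ centralizer (P : Set G)) (hcop : k.Coprime m) :
    g ∈ centralizer (P : Set G) := by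
  let f := P.normalizerMonoidHom
  have hker : f.ker = (centralizer (P : Set G)).subgroupOf (normalizer (P : Set G)) := P.normalizerMonoidHom_ker
  have hle : centralizer (P : Set G) ≤ normalizer (P : Set G) := Subgroup.centralizer_le_normalizer _
  have h1 : f.ker.index = m := by
    have h2 := f.ker.card_mul_index
    have h3 : Nat.card f.ker = Nat.card (centralizer (P : Set G)) := by
      rw [hker]
      exact Nat.card_congr (Subgroup.subgroupOfEquivOfLe hle).toEquiv
    rw [h3, hm, mul_comm] at h2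
    exact Nat.eq_of_mul_eq_mul_right Nat.card_pos h2
  rw [Subgroup.index_ker] at h1
  have h2 : (f.rangeRestrict ⟨g, hg⟩) ^ m = 1 := by
    rw [← h1]
    exact pow_card_eq_one'
  have h3 : (f.rangeRestrict ⟨g, hg⟩) ^ k = 1 := by
    rw [← map_pow]
    apply Subtype.ext
    show f (⟨g, hg⟩ ^ k) = 1
    rw [← MonoidHom.mem_ker, hker, mem_subgroupOf]
    exact hk
  have h4 : f.rangeRestrict ⟨g, hg⟩ = 1 := by
    rw [← orderOf_eq_one_iff]
    exact Nat.eq_one_of_dvd_coprimes hcop (orderOf_dvd_of_pow_eq_one h3) (orderOf_dvd_of_pow_eq_one h2)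
  have h5 : (⟨g, hg⟩ : normalizer (P : Set G)) ∈ f.ker := by
    rw [MonoidHom.mem_ker]
    exact congrArg Subtype.val h4
  rw [hker, mem_subgroupOf] at h5
  exact h5

variable {G : Type u} [Group G] [Finite G]

/-- elements of order 7 are not real, so `PSL₂(q)` with `7 ∣ q - 1` is not involved -/
theorem no_seven (h7 : ∀ S : Subgroup G, Nat.card S = 7 →
      Nat.card (normalizer (S : Set G)) = 3 * Nat.card (centralizer (S : Set G))) {F : Type*} [Field F] [Fintype F]
    (hF : 7 ∣ Fintype.card F - 1) (φ : SpecialLinearGroup (Fin 2) F →* G) (hφ : φ.ker ≤ center _) : False := by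
  have f7 : Fact (Nat.Prime 7) := ⟨by norm_num⟩
  obtain ⟨a, ha⟩ := exists_prime_orderOf_dvd_card' (G := Fˣ) 7 (by rw [Nat.card_units, Nat.card_eq_fintype_card]; exact hF)
  have ha2 : a⁻¹ ≠ a := by
    intro h
    have h1 : a ^ 2 = 1 := by
      rw [pow_two]
      nth_rewrite 1 [← h]
      exact inv_mul_cancel a
    have h2 := orderOf_dvd_of_pow_eq_one h1
    rw [ha] at h2
    norm_num at h2
  have hd : dg a ∉ center (SpecialLinearGroup (Fin 2) F) := by
    intro h
    have h1 : (a : F) = ((a⁻¹ : Fˣ) : F) := (center_apply h).2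
    exact ha2 (Units.ext h1).symm
  have hx : orderOf (φ (dg a)) = 7 := by
    refine orderOf_eq_prime ?_ fun h => hd (hφ h)
    rw [← map_pow]
    have h1 : (dg a) ^ 7 = 1 := by
      have := map_pow (dgHom (F := F)) a 7
      rw [← ha, pow_orderOf_eq_one, map_one, ha] at this
      exact this.symm
    rw [h1, map_one]
  have hP : Nat.card (Subgroup.zpowers (φ (dg a))) = 7 := by rw [Nat.card_zpowers, hx]
  have hg : φ ww * φ (dg a) * (φ ww)⁻¹ = (φ (dg a))⁻¹ := by
    rw [← map_mul, ww_dg, map_mul, mul_inv_cancel_right, ← map_inv]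
    congr 1
    exact map_inv (dgHom (F := F)) a
  have hgN : φ ww ∈ normalizer ((Subgroup.zpowers (φ (dg a)) : Subgroup G) : Set G) := by
    rw [Subgroup.mem_normalizer_iff_map_conj_eq, MonoidHom.map_zpowers]
    show Subgroup.zpowers (φ ww * φ (dg a) * (φ ww)⁻¹) = _
    rw [hg, Subgroup.zpowers_inv]
  have hg2 : (φ ww) ^ 2 ∈ centralizer ((Subgroup.zpowers (φ (dg a)) : Subgroup G) : Set G) := by
    rw [Subgroup.mem_centralizer_iff]
    intro y hy
    obtain ⟨n, rfl⟩ := Subgroup.mem_zpowers_iff.1 hy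
    have h1 : Commute ((φ ww) ^ 2) (φ (dg a)) := by
      have h2 : (φ ww) ^ 2 * φ (dg a) * ((φ ww) ^ 2)⁻¹ = φ (dg a) := by
        have h3 : (φ ww) ^ 2 * φ (dg a) * ((φ ww) ^ 2)⁻¹ =
            φ ww * (φ ww * φ (dg a) * (φ ww)⁻¹) * (φ ww)⁻¹ := by
          rw [pow_two]
          group
        rw [h3, hg]
        have h4 : φ ww * (φ (dg a))⁻¹ * (φ ww)⁻¹ = (φ ww * φ (dg a) * (φ ww)⁻¹)⁻¹ := by group
        rw [h4, hg, inv_inv]
      exact mul_inv_eq_iff_eq_mul.1 h2
    exact ((h1.zpow_right n).eq).symm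
  have h1 := mem_cent_of_coprime (h7 _ hP) hgN hg2 (by norm_num)
  rw [Subgroup.mem_centralizer_iff] at h1
  have h2 := h1 _ (Subgroup.mem_zpowers _)
  rw [← h2, mul_inv_cancel_right, eq_comm] at hg
  have h3 : (φ (dg a)) ^ 2 = 1 := by
    rw [pow_two]
    nth_rewrite 1 [← hg]
    exact inv_mul_cancel _
  have h4 := orderOf_dvd_of_pow_eq_one h3
  rw [hx] at h4
  norm_num at h4

/-- `|N(31) : C(31)| = 10`, so `PSL₂(31)` is not involved -/
theorem no_thirtyone (h31 : ∀ S : Subgroup G, Nat.card S = 31 →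
      Nat.card (normalizer (S : Set G)) = 10 * Nat.card (centralizer (S : Set G))) {F : Type*} [Field F] [Fintype F]
    (hF : Fintype.card F = 31) (φ : SpecialLinearGroup (Fin 2) F →* G) (hφ : φ.ker ≤ center _) : False := by
  have f31 : Fact (Nat.Prime 31) := ⟨by norm_num⟩
  have f3 : Fact (Nat.Prime 3) := ⟨by norm_num⟩
  obtain ⟨a, ha⟩ := exists_prime_orderOf_dvd_card' (G := Fˣ) 3 (by
    rw [Nat.card_units, Nat.card_eq_fintype_card, hF]; norm_num)
  have ha2 : (a : F) ^ 2 ≠ 1 := by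
    intro h
    have h1 : a ^ 2 = 1 := Units.ext (by push_cast; exact h)
    have h2 := orderOf_dvd_of_pow_eq_one h1
    rw [ha] at h2
    norm_num at h2
  have hu : ∀ b : F, b ≠ 0 → uu b ∉ center (SpecialLinearGroup (Fin 2) F) := by
    intro b hb h
    exact hb (center_apply h).1
  have hx : orderOf (φ (uu 1)) = 31 := by
    refine orderOf_eq_prime ?_ fun h => hu 1 one_ne_zero (hφ h)
    rw [← map_pow, uu_pow, ← hF, mul_one, Nat.cast_card_eq_zero, uu_zero, map_one]
  have hP : Nat.card (Subgroup.zpowers (φ (uu 1))) = 31 := by rw [Nat.card_zpowers, hx]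
  have hg : φ (dg a) * φ (uu 1) * (φ (dg a))⁻¹ = φ (uu ((a : F) ^ 2)) := by
    rw [← map_mul, dg_uu, map_mul, mul_inv_cancel_right, mul_one]
  have hgN : φ (dg a) ∈ normalizer ((Subgroup.zpowers (φ (uu 1)) : Subgroup G) : Set G) := by
    rw [Subgroup.mem_normalizer_iff_map_conj_eq]
    have h1 : (Subgroup.zpowers (φ (uu 1))).map (MulAut.conj (φ (dg a))).toMonoidHom ≤ Subgroup.zpowers (φ (uu 1)) := by
      rw [MonoidHom.map_zpowers, Subgroup.zpowers_le]
      show φ (dg a) * φ (uu 1) * (φ (dg a))⁻¹ ∈ _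
      rw [hg]
      let e := ZMod.ringEquivOfPrime F (p := 31) (by norm_num) hF
      have h2 : ((e.symm ((a : F) ^ 2)).val : F) = (a : F) ^ 2 := by
        rw [← map_natCast e, ZMod.natCast_zmod_val, RingEquiv.apply_symm_apply]
      have h3 : uu ((a : F) ^ 2) = (uu (1 : F)) ^ (e.symm ((a : F) ^ 2)).val := by
        rw [uu_pow, h2, mul_one]
      rw [h3, map_pow]
      exact Subgroup.pow_mem _ (Subgroup.mem_zpowers _) _
    refine Subgroup.eq_of_le_of_card_ge h1 ?_
    rw [Subgroup.card_map_of_injective (MulAut.conj _).injective]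
  have hg3 : (φ (dg a)) ^ 3 ∈ centralizer ((Subgroup.zpowers (φ (uu 1)) : Subgroup G) : Set G) := by
    have h1 : (dg a) ^ 3 = 1 := by
      have := map_pow (dgHom (F := F)) a 3
      rw [← ha, pow_orderOf_eq_one, map_one, ha] at this
      exact this.symm
    rw [← map_pow, h1, map_one]
    exact one_mem _
  have h1 := mem_cent_of_coprime (h31 _ hP) hgN hg3 (by norm_num)
  rw [Subgroup.mem_centralizer_iff] at h1
  have h2 := h1 _ (Subgroup.mem_zpowers _)
  rw [← h2, mul_inv_cancel_right] at hg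
  have h3 : uu ((a : F) ^ 2 + -1) ∈ φ.ker := by
    rw [MonoidHom.mem_ker, uu_add, map_mul, ← hg, ← map_mul, ← uu_add, add_neg_cancel, uu_zero, map_one]
  refine hu _ ?_ (hφ h3)
  rw [← sub_eq_add_neg]
  exact sub_ne_zero.2 ha2

/-- the homomorphism given by an isomorphism of a subgroup with `PSL₂(q)` -/
theorem exists_hom {S : Subgroup G} {F : Type*} [Field F]
    (h : Nonempty (S ≃* ProjectiveSpecialLinearGroup (Fin 2) F)) :
    ∃ φ : SpecialLinearGroup (Fin 2) F →* G, φ.ker ≤ center _ := by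
  obtain ⟨e⟩ := h
  refine ⟨(S.subtype.comp e.symm.toMonoidHom).comp (QuotientGroup.mk' _), ?_⟩
  intro x hx
  rw [MonoidHom.mem_ker] at hx
  have h1 : e.symm (QuotientGroup.mk' _ x) = 1 := Subtype.ext hx
  rw [map_eq_one_iff _ e.symm.injective] at h1
  rwa [QuotientGroup.mk'_apply, QuotientGroup.eq_one_iff] at h1

end Cfsg.Agent.H854.JM.NonLocal
end

-- part: H854/JM/List
section
/-!
# S5580, Part III: the list of the possible socles of the non-local maximal subgroups of `J4` (helper854)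

* `InList S` : `S` is one of `A5 A6 A7 A8 L2(7) L2(11) L2(23) L2(32) L3(4) L5(2) U3(3) U3(11) M11 M12 M22 M23 M24`;
* `nl_list` : for a maximal subgroup `M` of `Spor.J4` without nontrivial normal `p`-subgroups there is `S` with `NL M S` and
  `InList S`.
-/

set_option autoImplicit false

open Cfsg Subgroup

namespace Cfsg.Agent.H854.JM

open Cfsg.Agent.OrdDiv Cfsg.Agent.H866 Cfsg.Agent.H866.J4Ord Cfsg.Agent.H866.J4Min
open Cfsg.Agent.H854.JM.NonLocal
open Cfsg.Agent.H860.JM (NL)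

/-- the group `Spor.J4` -/
local notation "𝒢" => Cfsg.Spor.J4

/-- the possible socles -/
inductive InList (S : Type) [Group S] : Prop
  | alt (n : ℕ) (hn : n = 5 ∨ n = 6 ∨ n = 7 ∨ n = 8) (e : Nonempty (S ≃* ↥(alternatingGroup (Fin n)))) : InList S
  | psl (n q : ℕ) (h : (n, q) ∈ [(2, 7), (2, 11), (2, 23), (2, 32), (3, 4), (5, 2)]) (F : Type) (i : Field F)
      (j : Fintype F) (hq : Fintype.card F = q) (e : Nonempty (S ≃* Matrix.ProjectiveSpecialLinearGroup (Fin n) F)) :
      InList S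
  | psu (q : ℕ) (h : q = 3 ∨ q = 11) (F : Type) (i : Field F) (j : Fintype F) (hq : Fintype.card F = q ^ 2)
      (e : Nonempty (S ≃* PSU 3 F q)) : InList S
  | m11 (e : Spor.IsoM11 S) : InList S
  | m12 (e : Spor.IsoM12 S) : InList S
  | m22 (e : Spor.IsoM22 S) : InList S
  | m23 (e : Spor.IsoM23 S) : InList S
  | m24 (e : Spor.IsoM24 S) : InList S

/-- the list, for a simple subgroup of a group of Janko-four type -/
theorem inList_of (T : OrderTable.{0}) (hS : Known.{0}) {G : Type} [Group G] [Finite G] (hd : Nat.card G = nJ)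
    (h7 : ∀ S : Subgroup G, Nat.card S = 7 →
      Nat.card (normalizer (S : Set G)) = 3 * Nat.card (centralizer (S : Set G)))
    (h31 : ∀ S : Subgroup G, Nat.card S = 31 →
      Nat.card (normalizer (S : Set G)) = 10 * Nat.card (centralizer (S : Set G)))
    {S : Subgroup G} [IsSimpleGroup S] (hna : ¬ ∀ a b : S, a * b = b * a) (hne : S ≠ ⊤) : InList S := by
  obtain ⟨x, hx, hr, hc⟩ := exists_name T (hS S) hna ((Subgroup.card_subgroup_dvd_card S).trans hd.dvd)
  have f7 : Fact (Nat.Prime 7) := ⟨by norm_num⟩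
  have f2 : Fact (Nat.Prime 2) := ⟨by norm_num⟩
  have k5 : Nat.card S = 60 → InList S := fun h => .alt 5 (by simp) (S0494.result h)
  have k6 : Nat.card S = 360 → InList S := fun h => .alt 6 (by simp) (S0497.result h)
  have k7 : Nat.card S = 168 → InList S := fun h => .psl 2 7 (by simp) (ZMod 7) inferInstance inferInstance
    (ZMod.card 7) (S0495.result h (ZMod.card 7))
  have seven : ∀ q : ℕ, 7 ∣ q - 1 → Real (.psl 2 q) S → False := by
    rintro q hq ⟨F, i, j, hF, h⟩
    obtain ⟨φ, hφ⟩ := exists_hom h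
    exact no_seven h7 (F := F) (by rw [hF]; exact hq) φ hφ
  have keep : ∀ n q : ℕ, (n, q) ∈ [(2, 7), (2, 11), (2, 23), (2, 32), (3, 4), (5, 2)] → Real (.psl n q) S →
      InList S := by
    rintro n q hq ⟨F, i, j, hF, h⟩
    exact .psl n q hq F i j hF h
  simp only [names, List.mem_cons, List.not_mem_nil, or_false] at hx
  rcases hx with rfl | rfl | rfl | rfl | rfl | rfl | rfl | rfl | rfl | rfl | rfl | rfl | rfl | rfl | rfl | rfl | rfl |
    rfl | rfl | rfl | rfl | rfl | rfl | rfl | rfl | rfl | rfl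
  · exact k5 hc
  · exact k6 hc
  · exact .alt 7 (by simp) hr
  · exact .alt 8 (by simp) hr
  · exact k7 hc
  · obtain ⟨F, i, j, hF, ⟨e⟩⟩ := hr
    obtain ⟨e'⟩ := S0256.result hF
    exact .alt 8 (by simp) ⟨e.trans e'⟩
  · exact keep 5 2 (by simp) hr
  · exact k5 hc
  · exact keep 3 4 (by simp) hr
  · exact (seven 8 (by norm_num) hr).elim
  · exact keep 2 32 (by simp) hr
  · exact k6 hc
  · exact k5 hc
  · exact keep 2 7 (by simp) hr
  · exact keep 2 11 (by simp) hr
  · exact keep 2 23 (by simp) hr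
  · exact (seven 29 (by norm_num) hr).elim
  · obtain ⟨F, i, j, hF, h⟩ := hr
    obtain ⟨φ, hφ⟩ := exists_hom h
    exact (no_thirtyone h31 (F := F) hF φ hφ).elim
  · exact (seven 43 (by norm_num) hr).elim
  · obtain ⟨F, i, j, hF, h⟩ := hr
    exact .psu 3 (by simp) F i j hF h
  · obtain ⟨F, i, j, hF, h⟩ := hr
    exact .psu 11 (by simp) F i j hF h
  · exact .m11 hr
  · exact .m12 hr
  · exact .m22 hr
  · exact .m23 hr
  · exact .m24 hr
  · exact (hne (Subgroup.eq_top_of_card_eq S (hc.trans hd.symm))).elim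

/-- the normalizers of the subgroups of order 31 -/
theorem card_n31 {G : Type} [Group G] [Finite G] [IsSimpleGroup G] (hcG : Nat.card G = nJ)
    (hG : ¬ IsMulCommutative G) (hJ : IsOfJankoFourType G) (S : Subgroup G) (hS : Nat.card S = 31) :
      Nat.card (normalizer (S : Set G)) = 10 * Nat.card (centralizer (S : Set G)) := by
  have : Fact (Nat.Prime 31) := ⟨by norm_num⟩
  obtain ⟨U, hU⟩ := J4OddEnd.exists_sylow_eq hcG (p := 31) (n := 1) (by norm_num [nJ]) (P := S) (by rw [hS, pow_one])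
  obtain ⟨h1, h2⟩ := (S5577.result hG hJ).2.2.1 U
  rw [← hU, h2, h1, hU, hS]

theorem janko : IsOfJankoFourType 𝒢 := H337.isOfJankoFourType_of_isoJ4 ⟨MulEquiv.refl _⟩

instance : Finite 𝒢 := H858.FixJ4.facts.1

theorem card_J : Nat.card 𝒢 = nJ := H858.FixJ4.facts.2.1

theorem simple_J : IsSimpleGroup 𝒢 := S1703.result.1

theorem noncomm_J : ¬ IsMulCommutative 𝒢 := by
  have := simple_J
  exact Classification.SimpleIndex.not_comm_of_not_prime (by rw [card_J]; norm_num [nJ])

/-- the facts on the centralizers of the elements of prime order -/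
theorem cents_J (T : OrderTable.{0}) (hS : Known.{0}) : Cents 𝒢 := by
  have := simple_J
  exact cents T hS noncomm_J janko

/-- **Part III, the list.** -/
theorem nl_list' (T : OrderTable.{0}) (hS : Known.{0}) {M : Subgroup 𝒢} (hM : IsCoatom M)
    (hloc : ∀ p : ℕ, p.Prime → ∀ R : Subgroup 𝒢, R ≤ M → IsPGroup p R → M ≤ normalizer (R : Set 𝒢) → R = ⊥) :
    ∃ S : Subgroup 𝒢, NL M S ∧ InList S := by
  have hs := simple_J
  obtain ⟨S, h1, h2, h3, h4, h5, -⟩ := (cents_J T hS).exists_simple T hS noncomm_J hM hloc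
  have h7 : ∀ S : Subgroup 𝒢, Nat.card S = 7 →
      Nat.card (normalizer (S : Set 𝒢)) = 3 * Nat.card (centralizer (S : Set 𝒢)) := fun S hS' =>
    ((J4Facts.facts T hS noncomm_J janko).n7 S hS').2
  refine ⟨S, ⟨hM, h1, h2, h3, h4, h5⟩, inList_of T hS card_J h7 (fun S hS' => card_n31 card_J noncomm_J janko S hS')
    (fun h => h4 ⟨⟨h⟩⟩) ?_⟩
  rintro rfl
  exact hM.1 (top_le_iff.1 h1)

end Cfsg.Agent.H854.JM
end

private theorem dce_8339086b0bb8 : _root_.True := by
  try have : _root_.True := by simp only [_root_.Cfsg.Agent.H854.JM.NonLocal.ww.eq_1]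
  try have : _root_.True := by simp only [_root_.Cfsg.Agent.H854.JM.NonLocal.dg.eq_1]
  try have : _root_.True := by simp only [_root_.Cfsg.Agent.H866.J4Ord.names.eq_1]
  try have : _root_.True := by simp only [_root_.Cfsg.Agent.H854.JM.NonLocal.uu.eq_1]
  exact _root_.True.intro
end

-- part: H854/Ore/J4Cent
section
set_option linter.all false
open scoped Cfsg.Agent.FastGrp

/-!
# The centralizers of the elements of `Spor.J4` that are not 2-elements have order at most `2661120` (helper854)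
-/

set_option autoImplicit false

open Cfsg Subgroup

namespace Cfsg.Agent.H854.Ore

open Cfsg.Agent.H854.JM Cfsg.Agent.H854.JM.NonLocal
open Cfsg.Agent.OrdDiv Cfsg.Agent.H866 Cfsg.Agent.H866.J4Ord

/-- the group `Spor.J4` -/
local notation "𝒢" => Cfsg.Spor.J4

theorem cent_zpowers {G : Type*} [Group G] (x : G) :
    centralizer ((zpowers x : Subgroup G) : Set G) = centralizer {x} := by
  rw [zpowers_eq_closure, centralizer_closure]

theorem card_cent_of_conj {G : Type*} [Group G] {x y : G} (h : IsConj x y) :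
    Nat.card (centralizer ({x} : Set G)) = Nat.card (centralizer ({y} : Set G)) := by
  obtain ⟨c, rfl⟩ := isConj_iff.1 h
  rw [← cent_zpowers x, ← cent_zpowers (c * x * c⁻¹),
    show zpowers (c * x * c⁻¹) = (zpowers x).map (MulAut.conj c).toMonoidHom from
      (MonoidHom.map_zpowers (MulAut.conj c).toMonoidHom x).symm, J4OddEnd.map_conj_cent,
    Subgroup.card_map_of_injective (MulAut.conj c).injective]

theorem cent_three {x : 𝒢} (hx : orderOf x = 3) : Nat.card (centralizer ({x} : Set 𝒢)) = 2661120 := by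
  have := simple_J
  have hfin : Finite 𝒢 := H858.FixJ4.facts.1
  have f3 : Fact (Nat.Prime 3) := ⟨by norm_num⟩
  obtain ⟨z, P, hP⟩ := janko
  have hP3 : Nat.card P = 3 := hP.2.2.2.2.2.1
  obtain ⟨y, hy⟩ := exists_prime_orderOf_dvd_card' (G := P) 3 (by rw [hP3])
  have hyP : zpowers (y : 𝒢) = P := by
    refine Subgroup.eq_of_le_of_card_ge (zpowers_le.2 y.2) ?_
    rw [hP3, Nat.card_zpowers, Subgroup.orderOf_coe, hy]
  obtain ⟨-, -, h6, hM, hN⟩ := S5563.result noncomm_J z P hP
  have hCP : centralizer ({z} : Set 𝒢) ⊓ centralizer (P : Set 𝒢) = centralizer (P : Set 𝒢) :=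
    inf_eq_right.2 ((Subgroup.centralizer_le_normalizer _).trans hN)
  have hc : Nat.card (centralizer (P : Set 𝒢)) = 443520 * 6 := by
    rw [← hCP, Subgroup.card_eq_card_quotient_mul_card_subgroup
      (center ↥(centralizer ({z} : Set 𝒢) ⊓ centralizer (P : Set 𝒢))), h6,
      Nat.card_congr hM.some.toEquiv, Cfsg.Agent.SporadicA.MathieuRecog.card_M22]
  rw [card_cent_of_conj (S5564.result noncomm_J janko x (y : 𝒢) hx (by rw [Subgroup.orderOf_coe, hy])),
    ← cent_zpowers, hyP, hc]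

/-- a prime power dividing `|C(x)|` gives a `q`-subgroup centralizing `x` -/
theorem pow_le {x : 𝒢} {q n b : ℕ} (hq : q.Prime)
    (hb : ∀ S : Subgroup 𝒢, IsPGroup q S → (∀ s ∈ S, s * x = x * s) → Nat.card S ≤ b) (h : b < q ^ n) :
    ¬ q ^ n ∣ Nat.card (centralizer ({x} : Set 𝒢)) := by
  intro hd
  have : Fact q.Prime := ⟨hq⟩
  have hfin : Finite 𝒢 := H858.FixJ4.facts.1
  obtain ⟨S, hS⟩ := Sylow.exists_subgroup_card_pow_prime q hd
  have h1 := hb (S.map (centralizer ({x} : Set 𝒢)).subtype) ((IsPGroup.of_card hS).map _) (by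
    rintro _ ⟨s, -, rfl⟩
    exact (mem_centralizer_singleton_iff.1 s.2))
  rw [Subgroup.card_map_of_injective (Subtype.coe_injective), hS] at h1
  omega

/-- the centralizers of the subgroups of order `5, 7, 23, 29, 31, 37, 43` -/
structure LC : Prop where
  c5 : ∀ Q : Subgroup 𝒢, Nat.card Q = 5 → Nat.card (centralizer (Q : Set 𝒢)) = 6720
  c7 : ∀ Q : Subgroup 𝒢, Nat.card Q = 7 → Nat.card (centralizer (Q : Set 𝒢)) = 840
  cp : ∀ p ∈ [23, 29, 31, 37, 43], ∀ Q : Subgroup 𝒢, Nat.card Q = p → Nat.card (centralizer (Q : Set 𝒢)) = p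

theorem lc : LC := by
  have := simple_J
  have hfin : Finite 𝒢 := H858.FixJ4.facts.1
  have hc : Nat.card 𝒢 = nJ := card_J
  obtain ⟨z, hz⟩ := janko
  have ex : ∀ p : ℕ, p.Prime → p ∣ 5 * 7 → ¬ p ^ 2 ∣ nJ → ∃ Y : Subgroup 𝒢, Nat.card Y = p ∧
      Y ≤ centralizer ({z} : Set 𝒢) ∧ ∀ Q : Subgroup 𝒢, Nat.card Q = p →
        Nat.card (centralizer (Q : Set 𝒢)) = Nat.card (centralizer (Y : Set 𝒢)) := by
    intro p hp hd h2
    have : Fact p.Prime := ⟨hp⟩
    have hC : p ∣ Nat.card (centralizer ({z} : Set 𝒢)) := by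
      rw [(H821.J4MaxB.facts hz).card_cent]
      exact hd.trans (by norm_num)
    obtain ⟨y, hy⟩ := exists_prime_orderOf_dvd_card' (G := centralizer ({z} : Set 𝒢)) p hC
    have hY : Nat.card (Subgroup.zpowers (y : 𝒢)) = p := by rw [Nat.card_zpowers, Subgroup.orderOf_coe, hy]
    refine ⟨_, hY, Subgroup.zpowers_le.2 y.2, fun Q hQ => ?_⟩
    obtain ⟨g, rfl⟩ := conj_of_prime hc h2 hY hQ
    rw [J4OddEnd.map_conj_cent, Subgroup.card_map_of_injective (MulAut.conj g).injective]
  refine { c5 := ?_, c7 := ?_, cp := ?_ }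
  · obtain ⟨Y, hY, hYC, h⟩ := ex 5 (by norm_num) (by norm_num) (by norm_num [nJ])
    obtain ⟨-, ⟨J, hdir, E, hEn, hE2, hE8, hJE, hno⟩, -, -⟩ := S5572.result noncomm_J z hz _ hY hYC
    have hJc : Nat.card J = 8 * 168 := by
      rw [Subgroup.card_eq_card_quotient_mul_card_subgroup E, hE8, Nat.card_congr hJE.some.toEquiv,
        Cfsg.Agent.S3035.card_sl, mul_comm]
    intro Q hQ
    rw [h Q hQ, card_direct hdir, hY, hJc]
  · obtain ⟨Y, hY, hYC, h⟩ := ex 7 (by norm_num) (by norm_num) (by norm_num [nJ])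
    obtain ⟨-, ⟨J, hdir, hJ5⟩, -, -⟩ := S5573.result noncomm_J z hz _ hY hYC
    intro Q hQ
    rw [h Q hQ, card_direct hdir, hY, Nat.card_congr hJ5.some.toEquiv, Nat.card_perm, Nat.card_fin]
    rfl
  · intro p hp Q hQ
    simp only [List.mem_cons, List.not_mem_nil, or_false] at hp
    rcases hp with rfl | rfl | rfl | rfl | rfl
    · exact (H859.BigNum.data23 hQ).1
    · exact (H859.BigNum.data29' hQ).1
    · exact (H859.BigNum.data31 hQ).1
    · exact (H859.BigNum.data37 hQ).1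
    · exact (H859.BigNum.data43 hQ).1

theorem cent_eleven {x : 𝒢} (hx : orderOf x = 11) :
    Nat.card (centralizer ({x} : Set 𝒢)) ≤ 31944 := by
  have F := lc
  have hfin : Finite 𝒢 := H858.FixJ4.facts.1
  have h2 : ¬ 2 ^ 4 ∣ Nat.card (centralizer ({x} : Set 𝒢)) :=
    pow_le Nat.prime_two (fun S hS hc => H859.CentC.card_two hx hS hc) (by norm_num)
  have h3 : ¬ 3 ^ 2 ∣ Nat.card (centralizer ({x} : Set 𝒢)) :=
    pow_le Nat.prime_three (fun S hS hc => H859.CentC.card_three' hx hS hc) (by norm_num)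
  have hr : ∀ r ∈ [5, 7, 23, 29, 31, 37, 43], ¬ r ∣ Nat.card (centralizer ({x} : Set 𝒢)) := by
    intro r hr hd
    have hrp : r.Prime := by
      simp only [List.mem_cons, List.not_mem_nil, or_false] at hr
      rcases hr with rfl | rfl | rfl | rfl | rfl | rfl | rfl <;> norm_num
    have : Fact r.Prime := ⟨hrp⟩
    obtain ⟨y, hy⟩ := exists_prime_orderOf_dvd_card' (G := centralizer ({x} : Set 𝒢)) r hd
    have hQ : Nat.card (zpowers (y : 𝒢)) = r := by rw [Nat.card_zpowers, Subgroup.orderOf_coe, hy]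
    have hxy : zpowers x ≤ centralizer ((zpowers (y : 𝒢) : Subgroup 𝒢) : Set 𝒢) := by
      rw [zpowers_le, cent_zpowers, mem_centralizer_singleton_iff]
      exact (mem_centralizer_singleton_iff.1 y.2).symm
    have hd11 := Subgroup.card_dvd_of_le hxy
    rw [Nat.card_zpowers, hx] at hd11
    simp only [List.mem_cons, List.not_mem_nil, or_false] at hr
    rcases hr with rfl | rfl | rfl | rfl | rfl | rfl | rfl
    · rw [F.c5 _ hQ] at hd11; norm_num at hd11
    · rw [F.c7 _ hQ] at hd11; norm_num at hd11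
    · rw [F.cp 23 (by simp) _ hQ] at hd11; norm_num at hd11
    · rw [F.cp 29 (by simp) _ hQ] at hd11; norm_num at hd11
    · rw [F.cp 31 (by simp) _ hQ] at hd11; norm_num at hd11
    · rw [F.cp 37 (by simp) _ hQ] at hd11; norm_num at hd11
    · rw [F.cp 43 (by simp) _ hQ] at hd11; norm_num at hd11
  have hd : Nat.card (centralizer ({x} : Set 𝒢)) ∣ nJ := by
    rw [← card_J]; exact Subgroup.card_subgroup_dvd_card _
  -- remove the primes one after the other
  have hn : nJ = 2 ^ 18 * 3 ^ 2 * (2 ^ 3 * 3 * 11 ^ 3) * 5 * 7 * 23 * 29 * 31 * 37 * 43 := by norm_num [nJ]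
  rw [hn] at hd
  have e43 := H859.BigNum.remove (by norm_num) hd (hr 43 (by simp))
  have e37 := H859.BigNum.remove (by norm_num) e43 (hr 37 (by simp))
  have e31 := H859.BigNum.remove (by norm_num) e37 (hr 31 (by simp))
  have e29 := H859.BigNum.remove (by norm_num) e31 (hr 29 (by simp))
  have e23 := H859.BigNum.remove (by norm_num) e29 (hr 23 (by simp))
  have e7 := H859.BigNum.remove (by norm_num) e23 (hr 7 (by simp))
  have e5 := H859.BigNum.remove (by norm_num) e7 (hr 5 (by simp))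
  have key : ∀ n : ℕ, n ∣ 2 ^ 18 * 3 ^ 2 * (2 ^ 3 * 3 * 11 ^ 3) → ¬ 2 ^ 4 ∣ n → ¬ 3 ^ 2 ∣ n → n ≤ 31944 := by
    intro n hn h2 h3
    obtain ⟨a, b', h, ha, hb'⟩ : ∃ a b, n = a * b ∧ a ∣ 2 ^ 21 ∧ b ∣ 3 ^ 3 * 11 ^ 3 := by
      have : n ∣ 2 ^ 21 * (3 ^ 3 * 11 ^ 3) := by
        refine hn.trans (by norm_num)
      obtain ⟨a, b, ha, hb, h⟩ := exists_dvd_and_dvd_of_dvd_mul this
      exact ⟨a, b, h, ha, hb⟩
    obtain ⟨c, e, h', hc, he⟩ : ∃ a b, b' = a * b ∧ a ∣ 3 ^ 3 ∧ b ∣ 11 ^ 3 := by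
      obtain ⟨a, b, ha, hb, h⟩ := exists_dvd_and_dvd_of_dvd_mul hb'
      exact ⟨a, b, h, ha, hb⟩
    obtain ⟨i, hi, rfl⟩ := (Nat.dvd_prime_pow Nat.prime_two).1 ha
    obtain ⟨j, hj, rfl⟩ := (Nat.dvd_prime_pow Nat.prime_three).1 hc
    have hi3 : i ≤ 3 := by
      by_contra h4
      exact h2 (h ▸ Dvd.dvd.mul_right (pow_dvd_pow 2 (by omega)) _)
    have hj1 : j ≤ 1 := by
      by_contra h4
      refine h3 (h ▸ Dvd.dvd.mul_left ?_ _)
      rw [h']
      exact Dvd.dvd.mul_right (pow_dvd_pow 3 (by omega)) _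
    have he' : e ≤ 11 ^ 3 := Nat.le_of_dvd (by norm_num) he
    have h2i : 2 ^ i ≤ 2 ^ 3 := Nat.pow_le_pow_right (by norm_num) hi3
    have h3j : 3 ^ j ≤ 3 ^ 1 := Nat.pow_le_pow_right (by norm_num) hj1
    calc n = 2 ^ i * (3 ^ j * e) := by rw [h, h']
      _ ≤ 2 ^ 3 * (3 ^ 1 * 11 ^ 3) := Nat.mul_le_mul h2i (Nat.mul_le_mul h3j he')
      _ = 31944 := by norm_num
  exact key _ e5 h2 h3

/-- **`J4`: the centralizer of an element whose order is divisible by an odd prime has order at most `2661120`** -/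
theorem cent_le {g : 𝒢} {p : ℕ} (hp : p.Prime) (h2 : p ≠ 2) (h : p ∣ orderOf g) :
    Nat.card (centralizer ({g} : Set 𝒢)) ≤ 2661120 := by
  have F := lc
  have hfin : Finite 𝒢 := H858.FixJ4.facts.1
  have hpos : 0 < orderOf g := orderOf_pos g
  obtain ⟨k, hk⟩ := id h
  have hk0 : k ≠ 0 := by rintro rfl; omega
  have hx : orderOf (g ^ k) = p := by
    rw [orderOf_pow' g hk0, hk, Nat.gcd_eq_right (Dvd.intro_left p rfl), Nat.mul_div_cancel _ (by omega)]
  have hle : centralizer ({g} : Set 𝒢) ≤ centralizer ({g ^ k} : Set 𝒢) := by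
    intro c hc
    rw [mem_centralizer_singleton_iff] at hc ⊢
    exact ((show Commute c g from hc).pow_right k)
  refine (Subgroup.card_le_of_le hle).trans ?_
  have hpn : p ∣ nJ := by
    rw [← card_J, ← hx]
    exact orderOf_dvd_natCard _
  have hn : nJ = 2 ^ 21 * 3 ^ 3 * 5 * 7 * 11 ^ 3 * 23 * 29 * 31 * 37 * 43 := by norm_num [nJ]
  have hcases : p ∈ [3, 5, 7, 11, 23, 29, 31, 37, 43] := by
    rw [hn] at hpn
    simp only [hp.dvd_mul] at hpn
    have h1 : ∀ q n : ℕ, q.Prime → p ∣ q ^ n → p = q := fun q n hq hd => (Nat.prime_dvd_prime_iff_eq hp hq).1 (hp.dvd_of_dvd_pow hd)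
    have h0 : ∀ q : ℕ, q.Prime → p ∣ q → p = q := fun q hq hd => (Nat.prime_dvd_prime_iff_eq hp hq).1 hd
    simp only [List.mem_cons, List.not_mem_nil, or_false]
    rcases hpn with ((((((((h | h) | h) | h) | h) | h) | h) | h) | h) | h
    · exact absurd (h1 2 _ (by norm_num) h) h2
    · have := h1 3 _ (by norm_num) h; omega
    · have := h0 5 (by norm_num) h; omega
    · have := h0 7 (by norm_num) h; omega
    · have := h1 11 _ (by norm_num) h; omega
    · have := h0 23 (by norm_num) h; omega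
    · have := h0 29 (by norm_num) h; omega
    · have := h0 31 (by norm_num) h; omega
    · have := h0 37 (by norm_num) h; omega
    · have := h0 43 (by norm_num) h; omega
  have hQ : Nat.card (zpowers (g ^ k)) = p := by rw [Nat.card_zpowers, hx]
  simp only [List.mem_cons, List.not_mem_nil, or_false] at hcases
  rcases hcases with rfl | rfl | rfl | rfl | rfl | rfl | rfl | rfl | rfl
  · exact (cent_three hx).le
  · rw [← cent_zpowers, F.c5 _ hQ]; norm_num
  · rw [← cent_zpowers, F.c7 _ hQ]; norm_num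
  · exact (cent_eleven hx).trans (by norm_num)
  · rw [← cent_zpowers, F.cp 23 (by simp) _ hQ]; norm_num
  · rw [← cent_zpowers, F.cp 29 (by simp) _ hQ]; norm_num
  · rw [← cent_zpowers, F.cp 31 (by simp) _ hQ]; norm_num
  · rw [← cent_zpowers, F.cp 37 (by simp) _ hQ]; norm_num
  · rw [← cent_zpowers, F.cp 43 (by simp) _ hQ]; norm_num

end Cfsg.Agent.H854.Ore
end
end
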