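import Cfsg.Agent.H126.PwO.Nu_m3
import Cfsg.Agent.H85.Ore.Phi_mg_m3
import Cfsg.Agent.H85.Pw.IrrThree
import Cfsg.Agent.H71.CovFull
import Cfsg.Agent.H434.OreBridge
import Cfsg.Agent.H854.Ore.Fi24Two_m3
import Cfsg.Agent.H48.OreFi.Frame
import Cfsg.Agent.H713.TC.FiCl
import Cfsg.Agent.H643.PwCnt
import Cfsg.Agent.H48.OreFi.WOne_mg_m3
import Cfsg.Agent.H839.SeventeenMain_m3
import Cfsg.Agent.H187.FiOdd.Cent_m3
import Cfsg.Agent.H941.Sq.Mathieu
import Cfsg.Agent.LThreeFi23.Base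
import Cfsg.Agent.H253.TwoComm.Cent
import Cfsg.Agent.H293.PwF.Final
import Cfsg.Agent.Lib.PermNetFast
import Cfsg.Agent.H856.F23.Deg_m3
import Cfsg.Agent.H65.Ore.Split_m3
import Cfsg.Agent.H134.Sq.Base_m3
import Cfsg.Agent.H822.Ore.Fi23Asm_m3
import Cfsg.Agent.H692.Ore.Fi23C
import Cfsg.Agent.H511.Ore.WRow_m3
import Cfsg.Agent.H48.OreFi.WFour
import Cfsg.Agent.FastGrp
import Cfsg.Agent.Prune
set_option linter.all false

section
prune_inst 0x7f00000000000000000000000000000000000000000000000000000000000000000000000000000000000000000000000000000000000000000000000000000000000000000000000000000000000000003fffffffffffffffffffffffffffbeffbdefffffff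

-- part: H367/PO/Seven
section
set_option linter.all false
open scoped Cfsg.Agent.FastGrp

/-!
# S2465, orthogonal groups: frames of length 3 over `F_3`, `F_9`; `PΩ_7` (helper367)
-/

set_option autoImplicit false
set_option linter.unusedSectionVars false
set_option linter.unusedVariables false

namespace Cfsg.Agent.H367.PO

open QuadraticMap Matrix Module Polynomial Cfsg.Agent.LieClassical.OrthCore Cfsg.Agent.LieClassical.OrthTrans
  Cfsg.Agent.LieClassical.OrthFinite Cfsg.Agent.H140.OreO Cfsg.Agent.H126.PwO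

universe u v

variable {F : Type u} [Field F]

theorem eval_rev_one (p : F[X]) : p.reverse.eval 1 = p.eval 1 := by
  have i1 : Invertible (1 : F) := invertibleOne
  have h3 := eval₂_reverse_mul_pow (RingHom.id F) (1 : F) p
  rw [invOf_one, one_pow, mul_one] at h3
  exact h3

theorem eval_rev_neg_one (p : F[X]) : p.reverse.eval (-1) * (-1) ^ p.natDegree = p.eval (-1) := by
  let i1 : Invertible (-1 : F) := ⟨-1, by ring, by ring⟩
  have h3 := eval₂_reverse_mul_pow (RingHom.id F) (-1 : F) p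
  have h4 : ⅟(-1 : F) = -1 := rfl
  rw [h4] at h3
  exact h3

/-- irreducible polynomials of odd degree are not self-reciprocal -/
theorem cop_rev_odd (h2 : (2 : F) ≠ 0) {p : F[X]} (hm : p.Monic) (hp : Irreducible p) (hd : 2 ≤ p.natDegree)
    (ho : Odd p.natDegree) : IsCoprime p p.reverse := by
  rw [hp.coprime_iff_not_dvd]
  intro h
  have h0 : p.coeff 0 ≠ 0 := coeff_zero_ne hp hd
  have h1 := Polynomial.eq_mul_leadingCoeff_of_monic_of_dvd_of_natDegree_le hm h (natDegree_rev h0).le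
  have hev : ∀ x : F, p.eval x ≠ 0 := fun x => eval_ne_zero hp hd x
  have e1 : p.reverse.leadingCoeff = 1 := by
    have := congrArg (eval 1) h1
    rw [eval_rev_one, eval_mul, eval_C] at this
    exact (mul_left_cancel₀ (hev 1) (by rw [mul_one, ← this])).symm
  have e2 := eval_rev_neg_one p
  rw [h1, e1, C_1, mul_one, ho.neg_one_pow] at e2
  apply hev (-1)
  have h3 : (2 : F) * p.eval (-1) = 0 := by linear_combination -e2
  exact (mul_eq_zero.1 h3).resolve_left h2

theorem copP_odd {V : Type v} [AddCommGroup V] [Module F V] {m : ℕ} (h2 : (2 : F) ≠ 0) {p : F[X]} (hm : p.Monic)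
    (hp : Irreducible p) (hd : 2 ≤ p.natDegree) (ho : Odd p.natDegree) : CopP m p (1 : V ≃ₗ[F] V) :=
  copP_of_cop (un_one (eval_ne_zero hp hd 1)) (un_one (by rw [eval_rev_one]; exact eval_ne_zero hp hd 1))
    (cop_rev_odd h2 hm hp hd ho)

/-- the order of an irreducible element of determinant one -/
theorem pow_of_irr [Finite F] {n : ℕ} {X : Matrix (Fin n) (Fin n) F} (hX : Irreducible X.charpoly) (h1 : X.det = 1) :
    X ^ ∑ i : Fin n, Nat.card F ^ (i : ℕ) = 1 := by
  have h2 := Cfsg.Agent.H71.CovScal.pow_eq_det (T := Matrix.toLin' X) (by rwa [Matrix.charpoly_toLin'])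
  rw [LinearMap.det_toLin', h1, one_smul, finrank_fin_fun] at h2
  apply Matrix.toLin'.injective
  rw [Matrix.toLin'_pow, h2, Matrix.toLin'_one]
  rfl

/-- `P_3` for `q = 3, 9` -/
theorem split_three [Finite F] (hF : Nat.card F = 3 ∨ Nat.card F = 9) {A : Matrix (Fin 3) (Fin 3) F} (hA : A.det = 1)
    (hs : A = 1 ∨ ∀ c : F, A ≠ c • (1 : Matrix (Fin 3) (Fin 3) F)) :
    ∃ (X Y : Matrix (Fin 3) (Fin 3) F) (s : ℕ), A = X * Y ∧ X.det = 1 ∧ Y.det = 1 ∧ Irreducible X.charpoly ∧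
      Irreducible Y.charpoly ∧ s.Coprime 6 ∧ X ^ s = 1 ∧ Y ^ s = 1 := by
  rcases hF with hF | hF
  · obtain ⟨x, y, h, hx, hy, hx1, hy1⟩ := Cfsg.Agent.H85.Pw.p_three_three hF ⟨A, hA⟩
    refine ⟨x, y, 13, ?_, x.2, y.2, hx, hy, by decide, ?_, ?_⟩
    · exact congrArg Subtype.val h
    · exact congrArg Subtype.val hx1
    · exact congrArg Subtype.val hy1
  · obtain ⟨x, y, h, hx, hy, -⟩ := Cfsg.Agent.H126.M3.m3_sl (by rw [hF]; norm_num) ⟨A, hA⟩ (by
      rcases hs with h | h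
      · exact Or.inl (Subtype.ext h)
      · exact Or.inr h)
    have h3 : ∑ i : Fin 3, Nat.card F ^ (i : ℕ) = 91 := by
      rw [Fin.sum_univ_three, hF]; rfl
    refine ⟨x, y, 91, ?_, x.2, y.2, hx, hy, by decide, ?_, ?_⟩
    · exact congrArg Subtype.val h
    · rw [← h3]; exact pow_of_irr hx x.2
    · rw [← h3]; exact pow_of_irr hy y.2

theorem two_ne_zero_of [Finite F] (ho : Odd (Nat.card F)) : (2 : F) ≠ 0 := by
  have := Fintype.ofFinite F
  intro h0
  have : CharP F 2 := CharTwo.of_one_ne_zero_of_two_eq_zero one_ne_zero h0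
  have h3 := (FiniteField.even_card_iff_char_two (F := F)).1 (ringChar.eq F 2)
  rw [Nat.card_eq_fintype_card, Nat.odd_iff] at ho
  omega

/-- **frames of length 3, `q = 3, 9`** -/
theorem prO_frame_three {V : Type v} [AddCommGroup V] [Module F V] {Q : QuadraticForm F V} [Finite F]
    [FiniteDimensional F V] (hF : Nat.card F = 3 ∨ Nat.card F = 9) (hN : 5 ≤ finrank F V)
    {w w' : Fin 3 → V} (hQ : Nondeg Q) (hf : Frame Q w w') {g : V ≃ₗ[F] V} (hg : g ∈ O Q)
    (hS : SchurOne Q g w w') (hdet : (corner Q g w w').det = 1)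
    (hA : corner Q g w w' = 1 ∨ ∀ c : F, corner Q g w w' ≠ c • (1 : Matrix (Fin 3) (Fin 3) F)) : PrO 6 Q g := by
  obtain ⟨X, Y, s, h, hX, hY, hXi, hYi, hs, hXs, hYs⟩ := split_three hF hdet hA
  have h2 : (2 : F) ≠ 0 := two_ne_zero_of (by rcases hF with h | h <;> rw [h] <;> decide)
  have hd : ∀ X : Matrix (Fin 3) (Fin 3) F, X.charpoly.natDegree = 3 := fun X => by
    rw [charpoly_natDegree_eq_dim, Fintype.card_fin]
  exact prO_mat hN hQ hf hg hS h hX hY
    (copP_odd h2 (charpoly_monic X) hXi (by rw [hd]; norm_num) (by rw [hd]; decide))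
    (copP_odd h2 (charpoly_monic Y) hYi (by rw [hd]; norm_num) (by rw [hd]; decide)) hs hs hXs hYs

/-! ### odd dimension -/

theorem prO_one {V : Type v} [AddCommGroup V] [Module F V] {Q : QuadraticForm F V} (N : ℕ) :
    PrO N Q (1 : V ≃ₗ[F] V) :=
  ⟨1, (Om Q).one_mem, 1, (Om Q).one_mem, 1, 1, (one_mul 1).symm, Nat.coprime_one_left N, Nat.coprime_one_left N,
    one_pow 1, one_pow 1⟩

theorem ns_of_ne_one {V : Type v} [AddCommGroup V] [Module F V] {Q : QuadraticForm F V} [FiniteDimensional F V]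
    (hQ : Nondeg Q) (ho : Odd (finrank F V)) {g : V ≃ₗ[F] V} (hg : g ∈ Om Q) (h1 : g ≠ 1) :
    ∀ c : F, ∃ v, g v ≠ c • v := by
  intro c
  by_contra hcon
  push Not at hcon
  apply h1
  have hV : 0 < finrank F V := ho.pos
  obtain ⟨x, hx⟩ : ∃ x : V, x ≠ 0 := by
    have := Module.finrank_pos_iff.1 hV
    exact exists_ne 0
  obtain ⟨y, hy⟩ := hQ.exists_polar_eq hx 1
  have h2 := polar_map (Om_le hg) x y
  rw [hcon, hcon, polar_smul_left, polar_smul_right, hy, smul_eq_mul, smul_eq_mul, mul_one] at h2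
  have h3 := H141.SpinFacts.det_eq_one' hg
  have h4 : (g : V →ₗ[F] V) = c • (LinearMap.id : V →ₗ[F] V) := LinearMap.ext fun v => hcon v
  rw [h4, LinearMap.det_smul, LinearMap.det_id, mul_one] at h3
  obtain ⟨k, hk⟩ := ho
  rw [hk, pow_succ, pow_mul, pow_two, h2, one_pow, one_mul] at h3
  apply LinearEquiv.ext
  intro v
  rw [hcon, h3, one_smul]
  rfl

/-- **the bridge** -/
theorem all_pomega {ι : Type} [Fintype ι] [DecidableEq ι] {Q : QuadraticForm F (ι → F)} {N : ℕ}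
    (H : ∀ g ∈ Om Q, PrO N Q g) : Cfsg.Agent.H78.Pw.All N (Cfsg.POmega F ⇑Q) := by
  refine Cfsg.Agent.H78.Pw.All.of_surjective (QuotientGroup.mk' _) (QuotientGroup.mk'_surjective _) ?_
  refine Cfsg.Agent.H78.Pw.All.congr (omegaEquiv Q).symm ?_
  rintro ⟨g, hg⟩
  obtain ⟨a, ha, b, hb, s, t, h, hs, ht, has, hbt⟩ := H g hg
  refine ⟨⟨a, ha⟩, ⟨b, hb⟩, Subtype.ext h, ?_, ?_⟩
  · exact Nat.Coprime.of_dvd_left (orderOf_dvd_of_pow_eq_one (Subtype.ext has)) hs
  · exact Nat.Coprime.of_dvd_left (orderOf_dvd_of_pow_eq_one (Subtype.ext hbt)) ht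

theorem all_odd [Fintype F] (hodd : Odd (Fintype.card F)) (n : ℕ) {N : ℕ}
    (H : ∀ Q : QuadraticForm F (Unit ⊕ (Fin n ⊕ Fin n) → F), Nondeg Q →
      finrank F (Unit ⊕ (Fin n ⊕ Fin n) → F) = 2 * n + 1 → ∀ g ∈ Om Q, PrO N Q g) :
    Cfsg.Agent.H78.Pw.All N (Cfsg.POmega F (Cfsg.quadFormOdd n F)) := by
  have h2 : (2 : F) ≠ 0 := two_ne_zero_of (by rwa [Nat.card_eq_fintype_card])
  have h5 := all_pomega (H (Cfsg.Agent.LieClassical.OrthForms.oddForm n F)
    (Cfsg.Agent.LieClassical.OrthForms.nondeg_oddForm n F h2)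
    (by rw [Module.finrank_fintype_fun_eq_card]; simp; ring))
  rwa [Cfsg.Agent.LieClassical.OrthForms.coe_oddForm] at h5

/-- dimension 7 -/
theorem prO_seven {V : Type v} [AddCommGroup V] [Module F V] {Q : QuadraticForm F V} [Finite F]
    [FiniteDimensional F V] (hF : Nat.card F = 3 ∨ Nat.card F = 9) (hQ : Nondeg Q) (hd : finrank F V = 7)
    {g : V ≃ₗ[F] V} (hg : g ∈ Om Q) : PrO 6 Q g := by
  by_cases h1 : g = 1
  · rw [h1]
    exact prO_one 6
  obtain ⟨m, hm3, hm1, hm2, w, w', hfr, hS, hdet, hA⟩ :=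
    Cfsg.Agent.H434.Corn.exists_baseCorner hQ (by omega) hg (ns_of_ne_one hQ (by rw [hd]; decide) hg h1)
  obtain rfl : m = 3 := by omega
  exact prO_frame_three hF (by omega) hQ hfr (Om_le hg) hS hdet (hA.imp id fun h => h.1)

/-- **`PΩ_7(3)`, `PΩ_7(9)`** -/
theorem six_seven [Fintype F] (hF : Fintype.card F = 3 ∨ Fintype.card F = 9) :
    Cfsg.Agent.H78.Pw.All 6 (Cfsg.POmega F (Cfsg.quadFormOdd 3 F)) := by
  refine all_odd (by rcases hF with h | h <;> rw [h] <;> decide) 3 fun Q hQ hd g hg => ?_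
  exact prO_seven (by rwa [Nat.card_eq_fintype_card]) hQ hd hg

end Cfsg.Agent.H367.PO
end

-- part: H854/Ore/Fi24PwFin_mg
section
prune_inst 0x10000000
set_option linter.all false
open scoped Cfsg.Agent.FastGrp

-- part: H854/Ore/Fi24Pw
section
/-!
# `Fi24'`, row of S2465: products of two elements of order prime to 6 (and prime to `p`) (helper854)

* `pr_of_cent` : from the degree bounds of helper48's frame every `g` with `|C(g)| ≤ 78382080` is a product of two elements of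
  order 29;
* `two_pr`, `three_pr` : the 2-elements (order 23), the 3-elements (orders 5, 7);
* `pw_of` : the row, from the inputs `hDN`, `hDX`, `h9`, `h6` of helper48's frame.
-/

set_option autoImplicit false
set_option maxRecDepth 100000
set_option Elab.async false

open Cfsg Subgroup

namespace Cfsg.Agent.H854.Ore.Fi24Pw

open Cfsg.Agent Cfsg.Agent.Characters
open Cfsg.Agent.H78.Pw
open Cfsg.Agent.Fischer.Fi24RepDef Cfsg.Agent.Fischer.Fi24Rep
open Cfsg.Agent.Fischer.Fi24Spider (word_append word_cons word_nil)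
open Cfsg.Agent.Fischer.Fi24Final (sgn sgn_gen)
open Cfsg.Agent.LThreeFi24.FiveConj (eqB eq_of_eqB)
open Cfsg.Agent.R08.FiTwentyFour (mem_commutator_iff)
open Cfsg.Agent.H49.Four.ThreeInv (xr X_eq sgn_word)
open Cfsg.Spor (Fi24)
open Cfsg.Spor.Fi24 (Gen)

/-! ### The 2-elements -/

/-! ### The 3-elements -/

/-- first factors, of order `oa i` -/
def wa : Fin 5 → List Gen := ![[.b, .k, .a, .l], [.c, .b, .k, .a], [.j, .g, .f, .e, .d, .c], [.l, .k, .a, .b, .c, .d],
  [.a, .k, .j, .c, .g, .j, .f, .b, .e, .g]]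

/-- their orders -/
def oa : Fin 5 → ℕ := ![5, 5, 7, 7, 5]

/-- second factors, of order 5 -/
def wb : Fin 5 → List Gen := ![[.l, .a, .k, .b, .l, .k], [.a, .k, .b, .c, .l, .k, .b, .c],
  [.c, .d, .e, .f, .e, .d, .i, .c, .d, .h, .e, .f, .d, .e, .c, .d, .h, .i, .g, .f, .e, .d, .h, .j, .g, .f, .e, .d, .c,
    .d, .e, .f, .g, .j, .h, .d, .e, .f, .g, .i, .h, .d, .c, .e, .d, .f, .e, .h, .d, .c],
  [.d, .c, .b, .a, .b, .c, .e, .f],
  [.g, .e, .b, .f, .j, .g, .c, .j, .b, .a, .l, .d, .e, .f, .c, .d, .e, .b, .c, .d, .h, .d, .e, .f, .g, .j, .c, .d, .e,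
    .f, .g, .d, .h, .i, .c, .d, .h, .e, .f, .d, .e, .c, .d, .h, .i, .d, .h, .e, .f, .d, .e, .c, .d, .h, .e, .f, .d, .e,
    .c, .b]]

theorem p0 : and (eqB (wa 0 ++ wb 0) (xr 0)) (and (eqB (rep 5 (wa 0)) []) (eqB (rep 5 (wb 0)) [])) = true := by
  decide +kernel
theorem p1 : and (eqB (wa 1 ++ wb 1) (xr 1)) (and (eqB (rep 5 (wa 1)) []) (eqB (rep 5 (wb 1)) [])) = true := by
  decide +kernel
theorem p2 : and (eqB (wa 2 ++ wb 2) (xr 2)) (and (eqB (rep 7 (wa 2)) []) (eqB (rep 5 (wb 2)) [])) = true := by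
  (rewrite [show @Cfsg.Agent.LThreeFi24.FiveConj.eqB = delta% @Cfsg.Agent.LThreeFi24.FiveConj.eqB from by delta Cfsg.Agent.LThreeFi24.FiveConj.eqB; rfl, show @Cfsg.Agent.LThreeFi24.FiveConj.eqL = delta% @Cfsg.Agent.LThreeFi24.FiveConj.eqL from by delta Cfsg.Agent.LThreeFi24.FiveConj.eqL; rfl, show @Cfsg.Agent.LThreeFi24.FiveConj.eqL._f = delta% @Cfsg.Agent.LThreeFi24.FiveConj.eqL._f from by delta Cfsg.Agent.LThreeFi24.FiveConj.eqL._f; rfl, Cfsg.Agent.Lib.PermNetFast.winv_fast]; decide +kernel)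
theorem p3 : and (eqB (wa 3 ++ wb 3) (xr 3)) (and (eqB (rep 7 (wa 3)) []) (eqB (rep 5 (wb 3)) [])) = true := by
  decide +kernel
theorem p4 : and (eqB (wa 4 ++ wb 4) (xr 4)) (and (eqB (rep 5 (wa 4)) []) (eqB (rep 5 (wb 4)) [])) = true := by
  (rewrite [show @Cfsg.Agent.LThreeFi24.FiveConj.eqB = delta% @Cfsg.Agent.LThreeFi24.FiveConj.eqB from by delta Cfsg.Agent.LThreeFi24.FiveConj.eqB; rfl, show @Cfsg.Agent.LThreeFi24.FiveConj.eqL = delta% @Cfsg.Agent.LThreeFi24.FiveConj.eqL from by delta Cfsg.Agent.LThreeFi24.FiveConj.eqL; rfl, show @Cfsg.Agent.LThreeFi24.FiveConj.eqL._f = delta% @Cfsg.Agent.LThreeFi24.FiveConj.eqL._f from by delta Cfsg.Agent.LThreeFi24.FiveConj.eqL._f; rfl, Cfsg.Agent.Lib.PermNetFast.winv_fast]; decide +kernel)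

theorem pp (i : Fin 5) : eqB (wa i ++ wb i) (xr i) = true ∧ eqB (rep (oa i) (wa i)) [] = true ∧ eqB (rep 5 (wb i)) [] = true := by
  have key : ∀ a b c : Bool, and a (and b c) = true → a = true ∧ b = true ∧ c = true := by decide
  fin_cases i
  · exact key _ _ _ p0
  · exact key _ _ _ p1
  · exact key _ _ _ p2
  · exact key _ _ _ p3
  · exact key _ _ _ p4

theorem even_w : ∀ i : Fin 5, (wa i).length % 2 = 0 ∧ (wb i).length % 2 = 0 := by decide

theorem word_rep (n : ℕ) (l : List Gen) : word (rep n l) = word l ^ n := by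
  induction n with
  | zero => rw [pow_zero]; exact word_nil
  | succ n ih =>
    show word (l ++ rep n l) = _
    rw [word_append, ih, pow_succ']

theorem sgn_even {w : List Gen} (h : w.length % 2 = 0) : sgn (word w) = 1 := by
  rw [sgn_word]
  obtain ⟨k, hk⟩ := Nat.dvd_of_mod_eq_zero h
  rw [hk, pow_mul, neg_one_sq, one_pow]

/-- the representatives are products of elements of order 5 and 7 -/
theorem prod_X (i : Fin 5) : ∃ a b : Fi24, sgn a = 1 ∧ sgn b = 1 ∧ a ^ 35 = 1 ∧ b ^ 35 = 1 ∧ H842.ThreeCl.X i = a * b := by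
  obtain ⟨h1, h2, h3⟩ := pp i
  have e1 := eq_of_eqB h1
  have e2 := eq_of_eqB h2
  have e3 := eq_of_eqB h3
  rw [word_append] at e1
  rw [word_rep, word_nil] at e2 e3
  refine ⟨word (wa i), word (wb i), sgn_even (even_w i).1, sgn_even (even_w i).2, ?_, ?_, ?_⟩
  · obtain ⟨k, hk⟩ : oa i ∣ 35 := by fin_cases i <;> decide
    rw [hk, pow_mul, e2, one_pow]
  · rw [show 35 = 5 * 7 by norm_num, pow_mul, e3, one_pow]
  · rw [X_eq, ← e1]

theorem three_prod24 {y : Fi24} (h3 : y ^ 3 = 1) : ∃ a b : Fi24, sgn a = 1 ∧ sgn b = 1 ∧ a ^ 35 = 1 ∧ b ^ 35 = 1 ∧ y = a * b := by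
  by_cases h1 : y = 1
  · exact ⟨1, 1, map_one _, map_one _, one_pow _, one_pow _, by rw [h1, mul_one]⟩
  obtain ⟨i, g, h⟩ := H842.ThreeCl.all H49.Four.TEight.fgroup24' H49.Four.TEight.isT8 h3 h1
  obtain ⟨a, b, ha, hb, ha', hb', e⟩ := prod_X i
  have e1 : y = g⁻¹ * (g * y * g⁻¹) * g := by group
  have key : ∀ z : Fi24, sgn z = 1 → z ^ 35 = 1 → sgn (g⁻¹ * z * g) = 1 ∧ (g⁻¹ * z * g) ^ 35 = 1 := by
    intro z hz hz'
    refine ⟨by rw [map_mul, map_mul, map_inv, hz, mul_one, inv_mul_cancel], ?_⟩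
    have h := conj_pow (i := 35) (a := g⁻¹) (b := z)
    rw [inv_inv] at h
    rw [h, hz']; group
  rcases h with h | h
  · rw [h, e] at e1
    exact ⟨_, _, (key a ha ha').1, (key b hb hb').1, (key a ha ha').2, (key b hb hb').2, by rw [e1]; group⟩
  · rw [h, e] at e1
    have ia := key b⁻¹ (by rw [map_inv, hb, inv_one]) (by rw [inv_pow, hb', inv_one])
    have ib := key a⁻¹ (by rw [map_inv, ha, inv_one]) (by rw [inv_pow, ha', inv_one])
    exact ⟨_, _, ia.1, ib.1, ia.2, ib.2, by rw [e1]; group⟩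

/-- every 3-element of `Fi24'` is a product of two elements of order dividing 35 -/
theorem three_prod {s : Spor.Fi24'} (hs : s ^ 3 = 1) : ∃ a b : Spor.Fi24', a ^ 35 = 1 ∧ b ^ 35 = 1 ∧ s = a * b := by
  obtain ⟨a, b, ha, hb, ha', hb', e⟩ := three_prod24 (y := (s : Fi24)) (by
    have := congrArg Subtype.val hs
    simpa only [_root_.SubmonoidClass.coe_pow, _root_.OneMemClass.coe_one] using this)
  exact ⟨⟨a, mem_commutator_iff.2 ha⟩, ⟨b, mem_commutator_iff.2 hb⟩, Subtype.ext (by simpa only [_root_.SubmonoidClass.mk_pow, _root_.OneMemClass.coe_one] using ha'),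
    Subtype.ext (by simpa only [_root_.SubmonoidClass.mk_pow, _root_.OneMemClass.coe_one] using hb'), Subtype.ext e⟩

theorem pr_of {G : Type*} [Group G] {x y g : G} {q n : ℕ} (h : g = x * y) (hx : x ^ q = 1) (hy : y ^ q = 1)
    (hq : Nat.Coprime q n) : Pr n g :=
  ⟨x, y, h, Nat.Coprime.of_dvd_left (orderOf_dvd_of_pow_eq_one hx) hq,
    Nat.Coprime.of_dvd_left (orderOf_dvd_of_pow_eq_one hy) hq⟩

theorem noncomm : ¬ IsMulCommutative Spor.Fi24' := by
  obtain ⟨x, -, hx, hC, -⟩ := Cfsg.Agent.H30.IMFi24.exists_x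
  intro h
  have h1 : centralizer ({x} : Set Spor.Fi24') = ⊤ := by
    rw [eq_top_iff]
    intro y _
    rw [mem_centralizer_singleton_iff]
    exact h.is_comm.comm y x
  rw [h1, Subgroup.card_top, Cfsg.Agent.R08.FiTwentyFour.card_commutator] at hC
  omega

/-- **the sieve at 29** -/
theorem pr_of_cent
    (hDN : ∀ χ : IrrCharacter Spor.Fi24', (χ : Spor.Fi24' → ℂ) ≠ 1 →
      (charDegree (χ : Spor.Fi24' → ℂ) % 29 = 1 ∨ charDegree (χ : Spor.Fi24' → ℂ) % 29 = 28) →
        57477 ≤ charDegree (χ : Spor.Fi24' → ℂ))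
    (hDX : ∀ χ : IrrCharacter Spor.Fi24', (χ : Spor.Fi24' → ℂ) ≠ 1 →
      (charDegree (χ : Spor.Fi24' → ℂ) % 29 = 14 ∨ charDegree (χ : Spor.Fi24' → ℂ) % 29 = 15) →
        113000 ≤ charDegree (χ : Spor.Fi24' → ℂ))
    {g : Spor.Fi24'} (hc : Nat.card (centralizer ({g} : Set Spor.Fi24')) ≤ 78382080) {n : ℕ} (hn : Nat.Coprime 29 n) :
    Pr n g := by
  have := Fi24.finite'
  have : IsSimpleGroup Spor.Fi24' := Cfsg.Agent.S1698.result.1
  obtain ⟨x, -, hx, hC, -⟩ := Cfsg.Agent.H30.IMFi24.exists_x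
  obtain ⟨a, b, h⟩ := H65.Ore.prd_all (p := 29) noncomm (by norm_num) Cfsg.Agent.R08.FiTwentyFour.card_commutator hx hC 14 2 141
    (by decide +kernel) (DN := 57477) (DX := 113000) hDN hDX (by norm_num) (by norm_num) hx hc
  refine ⟨_, _, h, ?_, ?_⟩
  · rw [show orderOf (a * x * a⁻¹) = orderOf x from orderOf_injective (MulAut.conj a).toMonoidHom (MulAut.conj a).injective x, hx]
    exact hn
  · rw [show orderOf (b * x * b⁻¹) = orderOf x from orderOf_injective (MulAut.conj b).toMonoidHom (MulAut.conj b).injective x, hx]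
    exact hn

end Cfsg.Agent.H854.Ore.Fi24Pw
end

-- part: H854/Ore/Fi24PwFin
section
/-!
# `Fi24'`, row of S2465: final form (helper854)

`pw_fin` : from `All 6 Fi23` and the bounds `Wd 1`, `Wd 2`, `Wd 4` of helper48's `H48/OreFi/Nine.lean` (orders 9 and 27).
-/

set_option autoImplicit false
set_option maxRecDepth 100000

open Cfsg Subgroup

namespace Cfsg.Agent.H854.Ore.Fi24Pw

open Cfsg.Agent Cfsg.Agent.Characters
open Cfsg.Agent.H78.Pw
open Cfsg.Agent.R08.FiTwentyFour (L facts mem_commutator_iff)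
open Cfsg.Agent.H48.OreFi.Nine (Wd)
open Cfsg.Spor (Fi24)

/-- elements commuting with a transposition -/
theorem pr_of_fix {n : ℕ} (h23 : All n Spor.Fi23) {g : Spor.Fi24'} {d : Fi24} (hd : d ∈ L) (hg : Commute (g : Fi24) d) :
    Pr n g := by
  obtain ⟨c, rfl⟩ := isConj_iff.1 (show IsConj (Cfsg.Agent.Fischer.Fi24Class.gen .l) d from hd)
  have h1 : (c⁻¹ * (g : Fi24) * c) * Cfsg.Agent.Fischer.Fi24Class.gen .l =
      Cfsg.Agent.Fischer.Fi24Class.gen .l * (c⁻¹ * (g : Fi24) * c) := by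
    calc (c⁻¹ * (g : Fi24) * c) * Cfsg.Agent.Fischer.Fi24Class.gen .l
        = c⁻¹ * ((g : Fi24) * (c * Cfsg.Agent.Fischer.Fi24Class.gen .l * c⁻¹)) * c := by group
      _ = c⁻¹ * ((c * Cfsg.Agent.Fischer.Fi24Class.gen .l * c⁻¹) * (g : Fi24)) * c := by rw [hg.eq]
      _ = Cfsg.Agent.Fischer.Fi24Class.gen .l * (c⁻¹ * (g : Fi24) * c) := by group
  have h2 : Cfsg.Agent.Fischer.Fi24Final.sgn (c⁻¹ * (g : Fi24) * c) = 1 := by
    rw [map_mul, map_mul, map_inv, mem_commutator_iff.1 g.2, mul_one, inv_mul_cancel]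
  obtain ⟨k, hk⟩ := (facts.mem_range_iff _).2 ⟨h1, h2⟩
  have hn : ∀ x : Spor.Fi23, c * facts.phi x * c⁻¹ ∈ commutator Fi24 := by
    intro x
    rw [mem_commutator_iff, map_mul, map_mul, map_inv, facts.sgn_phi, mul_one, mul_inv_cancel]
  let f : Spor.Fi23 →* Spor.Fi24' :=
    { toFun := fun x => ⟨c * facts.phi x * c⁻¹, hn x⟩
      map_one' := Subtype.ext (by
        show c * facts.phi 1 * c⁻¹ = 1
        rw [map_one]; group)
      map_mul' := fun x y => Subtype.ext (by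
        show c * facts.phi (x * y) * c⁻¹ = c * facts.phi x * c⁻¹ * (c * facts.phi y * c⁻¹)
        rw [map_mul]; group) }
  refine All.of_range f h23 (y := g) ⟨k, Subtype.ext ?_⟩
  show c * facts.phi k * c⁻¹ = (g : Fi24)
  rw [hk]; group

/-- the orders 9 and 27 without a fixed transposition -/
theorem nine_bound (h1 : Wd 1) (h2 : Wd 2) (h4 : Wd 4) (g : Spor.Fi24') (b : ℕ) (hb : 2 ≤ b)
    (hg : orderOf g = 3 ^ b) (hD : ∀ d ∈ L, ¬ Commute (g : Fi24) d) :
    Nat.card (centralizer ({g} : Set Spor.Fi24')) ≤ 78382080 := by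
  obtain ⟨s, hs⟩ : ∃ s, s = g ^ 3 ^ (b - 1) := ⟨_, rfl⟩
  have ho : orderOf s = 3 := by
    rw [hs, orderOf_pow, hg]
    obtain ⟨c, rfl⟩ : ∃ c, b = c + 1 := ⟨b - 1, by omega⟩
    rw [Nat.add_sub_cancel, Nat.gcd_eq_right (pow_dvd_pow 3 (Nat.le_succ c)), pow_succ,
      Nat.mul_div_cancel_left _ (by positivity)]
  have hs3' : s ^ 3 = 1 := by rw [← ho]; exact pow_orderOf_eq_one s
  have hs3 : (s : Fi24) ^ 3 = 1 := congrArg Subtype.val hs3'
  have hs1' : s ≠ 1 := by rintro h; rw [h, orderOf_one] at ho; omega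
  have hs1 : (s : Fi24) ≠ 1 := fun h => hs1' (Subtype.ext h)
  obtain ⟨i, y, hy⟩ := Cfsg.Agent.H842.ThreeCl.all Cfsg.Agent.H49.Four.TEight.fgroup24' Cfsg.Agent.H49.Four.TEight.isT8
    hs3 hs1
  have hi : ∀ i : Fin 5, i = 0 ∨ i = 1 ∨ i = 2 ∨ i = 3 ∨ i = 4 := by decide
  rcases hi i with rfl | rfl | rfl | rfl | rfl
  · exfalso
    have e1 : (s : Fi24) = ((g ^ 3 ^ (b - 2) : Spor.Fi24') : Fi24) ^ 3 := by
      rw [hs]
      show (g : Fi24) ^ 3 ^ (b - 1) = ((g : Fi24) ^ 3 ^ (b - 2)) ^ 3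
      rw [← pow_mul, ← pow_succ]
      congr 2
      omega
    rw [e1] at hy
    exact H48.OreFi.NineA.zero_false hy
  · exact h1 g s b hb hg hs hD ⟨y, hy⟩
  · exact h2 g s b hb hg hs hD ⟨y, hy⟩
  · refine (H48.OreFi.NineA.two_bound ?_ hD (s := s) ?_ hs3 hs1 ?_).trans (by norm_num)
    · rw [hg]; exact Odd.pow (by decide)
    · intro x hx
      rw [hs]; exact hx.pow_right _
    · rw [H48.OreFi.NineA.width_of hy]; rfl
  · exact h4 g s b hb hg hs hD ⟨y, hy⟩

/-- `|C(g)| ≤ 78382080` : product of two elements of order 29 -/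
theorem pr_cent {g : Spor.Fi24'} (hc : Nat.card (centralizer ({g} : Set Spor.Fi24')) ≤ 78382080) {n : ℕ}
    (hn : Nat.Coprime 29 n) : Pr n g :=
  pr_of_cent Cfsg.Agent.H26.Ore.Fi24Deg.hDN
    (fun χ h1 h2 => le_trans (by norm_num) (Cfsg.Agent.H26.Ore.Fi24Deg.hDX χ h1 h2)) hc hn

/-- **the row, from `All 6 Fi23` and the orders 9 and 27** -/
theorem pwFin (h23 : All 6 Spor.Fi23) (h1 : Wd 1) (h2 : Wd 2) (h4 : Wd 4) : Pw Spor.Fi24' := by
  have := Fi24.finite'
  have : IsSimpleGroup Spor.Fi24' := Cfsg.Agent.S1698.result.1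
  constructor
  · intro g
    refine H48.OreFi.cases' (P := Pr 6) (fun g hg => pr_cent hg (by norm_num)) ?_ ?_ ?_
      (H48.OreFi.bound_zs H48.OreFi.bdA) g
    · intro g n hg
      exact Fi24.ext.two_pr (by norm_num) hg
    · intro g hg
      obtain ⟨a, b, ha, hb, h⟩ := three_prod hg
      exact pr_of h ha hb (by norm_num)
    · intro g b hb hg
      by_cases hD : ∃ d ∈ L, Commute (g : Fi24) d
      · obtain ⟨d, hd, hc⟩ := hD
        exact pr_of_fix h23 hd hc
      · push Not at hD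
        exact pr_cent (nine_bound h1 h2 h4 g b hb hg hD) (by norm_num)
  · intro p hp h5
    by_cases h29 : p = 29
    · subst h29
      exact Cfsg.Agent.H643.PwCnt.all_of_not_sq_dvd noncomm hp (by
        rw [Cfsg.Agent.R08.FiTwentyFour.card_commutator]; norm_num)
    · have h3 : ∀ k : ℕ, Nat.Coprime (3 ^ k) p := fun k =>
        Nat.Coprime.pow_left _ ((Nat.coprime_primes Nat.prime_three hp).2 (by omega))
      intro g
      refine H48.OreFi.cases' (P := Pr p) (fun g hg => pr_cent hg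
        ((Nat.coprime_primes (by norm_num) hp).2 (Ne.symm h29))) ?_ ?_ ?_ (H48.OreFi.bound_zs H48.OreFi.bdA) g
      · intro g n hg
        exact Pr.of_coprime (Nat.Coprime.of_dvd_left (orderOf_dvd_of_pow_eq_one hg)
          (Nat.Coprime.pow_left _ ((Nat.coprime_primes Nat.prime_two hp).2 (by omega))))
      · intro g hg
        exact Pr.of_coprime (Nat.Coprime.of_dvd_left (orderOf_dvd_of_pow_eq_one hg) (by simpa using h3 1))
      · intro g b _ hg
        exact Pr.of_coprime (by rw [hg]; exact h3 b)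

/-- **row `Fi24'` of S2465, final form** -/
theorem pw_fin (h23 : All 6 Spor.Fi23) (h1 : Wd 1) (h2 : Wd 2) (h4 : Wd 4) {S : Type*} [Group S]
    (h : Spor.IsoFi24' S) : Pw S := by
  obtain ⟨e⟩ := h
  exact (pwFin h23 h1 h2 h4).congr e.symm

end Cfsg.Agent.H854.Ore.Fi24Pw
end

-- part: H980/Pw/Gen
section
/-!
# S2465: tools for the half rows (II) `All p`, `p ≥ 5` (helper980)

* `le_relIndex` : `n y n⁻¹ = y ^ m`, `m` of order `≥ k` mod `p`: `k ≤ |N(⟨y⟩) : C(⟨y⟩)|`;
* `all_of_one_class` : one class of elements of order `p ≥ 3`;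
* `all_of_two_cyc` : two classes of subgroups of order `p`, `1 / k + 1 / l ≤ 1 / 2`;
* `cov_of_index_two` : covers in a subgroup of index two.
-/

set_option autoImplicit false

namespace Cfsg.Agent.H980.Pw

open Subgroup Cfsg.Agent.H78.Pw Cfsg.Agent.H643.PwCnt

universe u

variable {G : Type u} [Group G]

theorem mem_normalizer_of_conj [Finite G] {y n : G} {m : ℕ} (hn : n * y * n⁻¹ = y ^ m) :
    n ∈ normalizer (zpowers y : Set G) := by
  have h5 : (zpowers y).map (MulAut.conj n).toMonoidHom = zpowers y := by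
    apply Subgroup.eq_of_le_of_card_ge
    · rw [MonoidHom.map_zpowers, zpowers_le]
      change n * y * n⁻¹ ∈ zpowers y
      rw [hn]
      exact pow_mem (mem_zpowers y) m
    · rw [Subgroup.card_map_of_injective (MulAut.conj n).injective]
  rw [mem_normalizer_iff]
  intro x
  constructor
  · intro hx
    rw [← h5]
    exact ⟨x, hx, rfl⟩
  · intro hx
    rw [← h5] at hx
    obtain ⟨w, hw, hwx⟩ := hx
    have : w = x := (MulAut.conj n).injective hwx
    rwa [← this]

theorem conj_pow_pow {y n : G} {m : ℕ} (hn : n * y * n⁻¹ = y ^ m) : ∀ i : ℕ, n ^ i * y * (n ^ i)⁻¹ = y ^ m ^ i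
  | 0 => by simp
  | i + 1 => by
    have ih := conj_pow_pow hn i
    calc n ^ (i + 1) * y * (n ^ (i + 1))⁻¹ = n * (n ^ i * y * (n ^ i)⁻¹) * n⁻¹ := by rw [pow_succ']; group
      _ = n * y ^ m ^ i * n⁻¹ := by rw [ih]
      _ = (n * y * n⁻¹) ^ m ^ i := by rw [conj_pow]
      _ = y ^ m ^ (i + 1) := by rw [hn, ← pow_mul, pow_succ']

theorem le_relIndex [Finite G] {y n : G} {p m k : ℕ} (hy : orderOf y = p) (hn : n * y * n⁻¹ = y ^ m)
    (hm : ∀ j < k, 0 < j → m ^ j % p ≠ 1 % p) :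
    k ≤ (centralizer (zpowers y : Set G)).relIndex (normalizer (zpowers y : Set G)) := by
  have hnN := mem_normalizer_of_conj hn
  let N := normalizer (zpowers y : Set G)
  let C := (centralizer (zpowers y : Set G)).subgroupOf N
  let f : Fin k → N ⧸ C := fun i => QuotientGroup.mk (⟨n, hnN⟩ ^ (i : ℕ) : N)
  have key : ∀ i j : ℕ, i < j → j < k → (QuotientGroup.mk (⟨n, hnN⟩ ^ i : N) : N ⧸ C) ≠ QuotientGroup.mk (⟨n, hnN⟩ ^ j : N) := by
    intro i j hij hj h
    rw [QuotientGroup.eq] at h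
    have h1 : (⟨n, hnN⟩ ^ i : N)⁻¹ * ⟨n, hnN⟩ ^ j = ⟨n, hnN⟩ ^ (j - i) := by
      have e : j = i + (j - i) := by omega
      conv_lhs => rw [e]
      rw [pow_add, inv_mul_cancel_left]
    rw [h1, Subgroup.mem_subgroupOf] at h
    have h2 : n ^ (j - i) ∈ centralizer (zpowers y : Set G) := h
    rw [mem_centralizer_iff] at h2
    have h3 := h2 y (mem_zpowers y)
    have h4 := conj_pow_pow hn (j - i)
    rw [← h3, mul_inv_cancel_right] at h4
    have h5 : y ^ 1 = y ^ m ^ (j - i) := by rw [pow_one]; exact h4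
    rw [pow_inj_mod, hy] at h5
    exact hm (j - i) (by omega) (by omega) h5.symm
  have hf : Function.Injective f := by
    intro i j h
    rcases lt_trichotomy (i : ℕ) j with h1 | h1 | h1
    · exact absurd h (key i j h1 j.2)
    · exact Fin.ext h1
    · exact absurd h.symm (key j i h1 i.2)
  have h1 := Nat.card_le_card_of_injective f hf
  rw [Nat.card_eq_fintype_card, Fintype.card_fin] at h1
  exact h1

/-- one class of elements of order `p`, `p ≥ 3` -/
theorem all_of_one_class [Finite G] {p : ℕ} (hp : p.Prime) (h3 : 3 ≤ p) {z : G} (hz : orderOf z = p)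
    (hcl : ∀ y : G, orderOf y = p → ∃ g : G, g * y * g⁻¹ = z) : All p G := by
  refine all_of_one hp (zpowers z) (by rw [Nat.card_zpowers, hz]) (fun y hy => ?_) ?_
  · obtain ⟨g, hg⟩ := hcl y hy
    exact ⟨g, by rw [hg]; exact mem_zpowers z⟩
  · have h2 : orderOf (z ^ 2) = p := by
      rw [Nat.Coprime.orderOf_pow, hz]
      rw [hz]
      exact (Nat.coprime_primes hp Nat.prime_two).2 (by omega)
    obtain ⟨g, hg⟩ := hcl _ h2
    have h4 : g⁻¹ * z * g⁻¹⁻¹ = z ^ 2 := by
      calc g⁻¹ * z * g⁻¹⁻¹ = g⁻¹ * (g * z ^ 2 * g⁻¹) * g := by rw [hg, inv_inv]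
        _ = z ^ 2 := by group
    have h5 := le_relIndex (k := 2) hz h4 (by
      intro j hj h0
      have : j = 1 := by omega
      subst this
      rw [pow_one, Nat.mod_eq_of_lt (by omega), Nat.mod_eq_of_lt (by omega)]
      norm_num)
    intro hle
    rw [← relIndex_eq_one] at hle
    omega

end Cfsg.Agent.H980.Pw
end

-- part: H980/Pw/BigFi
section
/-!
# S2465, half rows (II) : `All p`, `p ≥ 5`, for `Fi23` and `Fi24'` (helper980)
-/

set_option autoImplicit false
set_option maxRecDepth 100000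

namespace Cfsg.Agent.H980.Pw

open Subgroup Cfsg Cfsg.Agent.H78.Pw Cfsg.Agent.H643.PwCnt

universe u

theorem not_imc {G : Type u} [Group G] (h : ¬ ∀ a b : G, a * b = b * a) : ¬ IsMulCommutative G :=
  fun hc => h fun a b => hc.is_comm.comm a b

/-! ### `Fi23` -/

theorem big_fi23' {p : ℕ} (hp : p.Prime) (h5 : 5 ≤ p) : All p Spor.Fi23 := by
  have hcard : Nat.card Spor.Fi23 = 4089470473293004800 := LThreeFi23.card_G
  have hfin : Finite Spor.Fi23 := Nat.finite_of_card_ne_zero (by rw [hcard]; norm_num)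
  have hs : IsSimpleGroup Spor.Fi23 := Cfsg.Agent.Fischer.Fi23Simple.isFi23.1
  have hna : ¬ ∀ a b : Spor.Fi23, a * b = b * a :=
    H253.TC.not_comm_of_card (K := Spor.Fi23) hcard (by norm_num) (p := 7) (by norm_num) (by norm_num) (by norm_num)
  by_cases hp5 : p = 5
  · subst hp5
    obtain ⟨x, hx⟩ : ∃ x : Spor.Fi23, orderOf x = 5 := by
      have := Fact.mk Nat.prime_five
      exact exists_prime_orderOf_dvd_card' 5 (by rw [hcard]; norm_num)
    have hcl : ∀ y : Spor.Fi23, orderOf y = 5 → ∃ g : Spor.Fi23, g * y * g⁻¹ = LThreeFi23.elw LThreeFi23.y5 := by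
      intro y hy
      refine H838.Fi23.Syl.conj_y5 (by rw [← hy, pow_orderOf_eq_one]) ?_
      rintro rfl
      rw [orderOf_one] at hy
      norm_num at hy
    refine all_of_one_class hp (by norm_num) (z := LThreeFi23.elw LThreeFi23.y5) ?_ hcl
    obtain ⟨g, hg⟩ := hcl x hx
    rw [← hg, ← hx]
    exact MulEquiv.orderOf_eq (MulAut.conj g) x
  · apply all_of_not_sq_dvd (not_imc hna) hp
    rw [hcard]
    intro h
    obtain ⟨hm, hd⟩ := H941.Sq.eq_of_sq hp h ([5, 5, 7, 11, 13, 17, 23] ++ List.replicate 18 2 ++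
      List.replicate 13 3) (by decide) (by decide)
    simp only [List.mem_cons, List.not_mem_nil, or_false, List.mem_append, List.mem_replicate] at hm
    have h7 : p ≠ 7 := by rintro rfl; revert hd; norm_num
    have h11 : p ≠ 11 := by rintro rfl; revert hd; norm_num
    have h13 : p ≠ 13 := by rintro rfl; revert hd; norm_num
    have h17 : p ≠ 17 := by rintro rfl; revert hd; norm_num
    have h23 : p ≠ 23 := by rintro rfl; revert hd; norm_num
    omega

/-- **(II) for `Fi23`** -/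
theorem big_fi23 {S : Type u} [Group S] (h : Spor.IsoFi23 S) {p : ℕ} (hp : p.Prime) (h5 : 5 ≤ p) : All p S := by
  obtain ⟨e⟩ := h
  exact (big_fi23' hp h5).congr e.symm

/-! ### `Fi24'` -/

section TF

open Cfsg.Agent Cfsg.Agent.Fischer.Fi24RepDef Cfsg.Agent.Fischer.Fi24Rep
open Cfsg.Agent.Fischer.Fi24Spider (word_append word_cons word_nil gword gen_conj)
open Cfsg.Agent.R08.FiTwentyFour (L gen_mem_L)
open Cfsg.Agent.LThreeFi24.SNine Cfsg.Agent.H841.Five Cfsg.Agent.H842.Seven Cfsg.Agent.H842.SevenK Cfsg.Agent.H842.SevenSyl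
open Cfsg.Spor (Fi24)
open Cfsg.Spor.Fi24 (Gen)
open Cfsg.Agent.Fischer.Fi24Final (sgn sgn_gen ker_sgn)
open Equiv

end TF

end Cfsg.Agent.H980.Pw
end

-- part: H293/PwF/Pw
section
/-!
# `Fi23`: row of S2465 (helper293)

The half row (I) with helper367's `six_seven` (`PΩ₇(3)`), the half row (II) by helper980.
-/

set_option autoImplicit false

namespace Cfsg.Agent.H293.PwF

open Subgroup Cfsg Cfsg.Agent.H78.Pw
open Cfsg.Spor (Fi23)

theorem six_o7 : All 6 (POmega (ZMod 3) (quadFormOdd 3 (ZMod 3))) :=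
  Cfsg.Agent.H367.PO.six_seven (Or.inl (ZMod.card 3))

/-- **half row (I)** -/
theorem six_fi {S : Type*} [Group S] (h : Spor.IsoFi23 S) : All 6 S := six_fi23 six_o7 h

/-- **half row (I), the model** -/
theorem six_model : All 6 Fi23 := six_fi ⟨MulEquiv.refl _⟩

/-- **row `Fi23` of S2465** -/
theorem pw_fi23 {S : Type*} [Group S] (h : Spor.IsoFi23 S) : Pw S :=
  ⟨six_fi h, fun _ hp h5 => Cfsg.Agent.H980.Pw.big_fi23 h hp h5⟩

end Cfsg.Agent.H293.PwF
end
end

-- part: H856/F23/Row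
section
set_option linter.all false
open scoped Cfsg.Agent.FastGrp

-- part: H856/F23/TI
section
/-!
# `Fi₂₃`: elements with `|C(g)| ≤ 152121389` are products of four involutions (helper856)

`t1I` : from the structure constants of the classes of `y17` (order 17) and `y28` (order 28), both inverted by involutions.
-/

set_option autoImplicit false
set_option maxRecDepth 100000

namespace Cfsg.Agent.H856.F23

open Cfsg Subgroup Cfsg.Agent.Lib.PermNet Cfsg.Agent.Fischer.Fi23Hom Cfsg.Agent.LThreeFi23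
open Cfsg.Agent.Characters.Core Cfsg.Agent.H65.Ore Cfsg.Agent.H777.Ore
open Cfsg.Spor (Fi23)

/-! ### the two elements are inverted by involutions -/

/-- the involution inverting `y17` -/
def u17 : List Lt := [.f, .j, .g, .d, .a, .c, .h, .e, .f, .j, .d, .b, .e, .h, .c, .a, .d, .g, .j, .f]

theorem c_u17 : agree (u17 ++ u17) [] [11589, 8004, 8003, 8000, 8002, 8005, 7999, 8007, 8006, 0] = true := by
  decide +kernel

theorem c_u17' : agree (u17 ++ y17) (y17.reverse ++ u17)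
    [11589, 8004, 8003, 8000, 8002, 8005, 7999, 8007, 8006, 0] = true := by decide +kernel

theorem u17_sq : elw u17 * elw u17 = 1 := by
  have h := elw_eq_of_agree c_u17
  rwa [elw_append, elw_nil] at h

theorem u17_conj : elw u17 * elw y17 * (elw u17)⁻¹ = (elw y17)⁻¹ := by
  have h := elw_eq_of_agree c_u17'
  rw [elw_append, elw_append, elw_reverse] at h
  rw [h, mul_inv_cancel_right]

/-- the involution inverting `y28` -/
noncomputable def u28 : Fi23 := elw H839.Fi23.q7 ^ 3 * (el .g * el .z)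

theorem gz_comm : el .g * el .z = el .z * el .g := by
  have := lt_comm .g .z (by decide)
  exact this

theorem S5g : el .g ∈ Cfsg.Agent.H838.Fi23.SL Cfsg.Agent.H838.Fi23.L5 := Cfsg.Agent.H838.Fi23.el_mem (by decide)
theorem S5j : el .j ∈ Cfsg.Agent.H838.Fi23.SL Cfsg.Agent.H838.Fi23.L5 := Cfsg.Agent.H838.Fi23.el_mem (by decide)
theorem S5z : el .z ∈ Cfsg.Agent.H838.Fi23.SL Cfsg.Agent.H838.Fi23.L5 := Cfsg.Agent.H838.Fi23.el_mem (by decide)

theorem q3_comm {x : Fi23} (hx : x ∈ Cfsg.Agent.H838.Fi23.SL Cfsg.Agent.H838.Fi23.L5) :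
    Commute (elw H839.Fi23.q7 ^ 3) x :=
  (show Commute (elw H839.Fi23.q7) x from (H839.Fi23.S5_comm_q7 hx).symm).pow_left 3

theorem q3_sq : elw H839.Fi23.q7 ^ 3 * elw H839.Fi23.q7 ^ 3 = 1 := by
  rw [← pow_add]; exact H839.Fi23.q7_pow

theorem q3_conj : elw H839.Fi23.q7 ^ 3 * elw y7 * (elw H839.Fi23.q7 ^ 3)⁻¹ = (elw y7)⁻¹ := by
  have h := Cfsg.Agent.H838.Norm.conj_pow_zpow H839.Fi23.q7_conj 3 1
  rw [zpow_one, mul_one] at h
  rw [h]
  have h7 : elw y7 ^ (7 : ℕ) = 1 := pow7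
  have h28 : elw y7 ^ (28 : ℤ) = 1 := by
    have : elw y7 ^ (28 : ℤ) = (elw y7 ^ (7 : ℕ)) ^ (4 : ℕ) := by
      rw [← pow_mul]
      norm_cast
    rw [this, h7, one_pow]
  have h2 : (((3 : ℕ) : ℤ) ^ 3) = 28 - 1 := by norm_num
  rw [h2, zpow_sub, h28, one_mul, zpow_one]

theorem u28_sq : u28 * u28 = 1 := by
  have hg := el_sq .g
  have hz := el_sq .z
  have h1 := (q3_comm (mul_mem S5g S5z)).eq
  have h2 := q3_sq
  unfold u28
  generalize elw H839.Fi23.q7 ^ 3 = q at h1 h2 ⊢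
  calc q * (el .g * el .z) * (q * (el .g * el .z)) = q * ((el .g * el .z) * q) * (el .g * el .z) := by group
    _ = q * (q * (el .g * el .z)) * (el .g * el .z) := by rw [h1]
    _ = (q * q) * (el .g * (el .z * el .g) * el .z) := by group
    _ = (q * q) * ((el .g * el .g) * (el .z * el .z)) := by rw [← gz_comm]; group
    _ = 1 := by rw [h2, hg, hz]; simp

theorem u28_conj : u28 * y28 * u28⁻¹ = y28⁻¹ := by
  have hg := el_sq .g
  have hz := el_sq .z
  have hj := el_sq .j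
  have h1 := (q3_comm (mul_mem S5g (mul_mem S5j S5z))).eq
  have h3 := q3_conj
  have h4 : elw y7 * (el .g * el .z) = (el .g * el .z) * elw y7 := H839.Fi23.S5_comm_y7 (mul_mem S5g S5z)
  have h5 : elw y7 * (el .g * (el .j * el .z)) = (el .g * (el .j * el .z)) * elw y7 :=
    H839.Fi23.S5_comm_y7 (mul_mem S5g (mul_mem S5j S5z))
  have hgz := gz_comm
  have e1 : (el .g * el .z) * (el .g * (el .j * el .z)) * (el .g * el .z)⁻¹ = (el .g * (el .j * el .z))⁻¹ := by
    have hg' : (el .g)⁻¹ = el .g := inv_eq_of_mul_eq_one_left hg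
    have hz' : (el .z)⁻¹ = el .z := inv_eq_of_mul_eq_one_left hz
    have hj' : (el .j)⁻¹ = el .j := inv_eq_of_mul_eq_one_left hj
    rw [mul_inv_rev, mul_inv_rev, mul_inv_rev, hg', hz', hj']
    calc (el .g * el .z) * (el .g * (el .j * el .z)) * (el .z * el .g)
        = (el .g * el .z) * el .g * el .j * (el .z * el .z) * el .g := by group
      _ = (el .z * el .g) * el .g * el .j * el .g := by rw [hz, hgz]; group
      _ = el .z * (el .g * el .g) * el .j * el .g := by group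
      _ = el .z * el .j * el .g := by rw [hg, mul_one]
  unfold u28 y28
  generalize elw H839.Fi23.q7 ^ 3 = q at h1 h3 ⊢
  generalize elw y7 = y at h3 h4 h5 ⊢
  generalize el .g * (el .j * el .z) = s at e1 h1 h5 ⊢
  generalize el .g * el .z = r at e1 h4 ⊢
  have h6 : r * s * r⁻¹ = s⁻¹ := e1
  have h7 : y * r = r * y := h4
  have h8 : q * s⁻¹ = s⁻¹ * q := (show Commute q s from h1).inv_right.eq
  have h9 : y⁻¹ * s⁻¹ = s⁻¹ * y⁻¹ := (show Commute y s from h5).inv_inv.eq
  calc q * r * (y * s) * (q * r)⁻¹ = q * (r * y) * s * r⁻¹ * q⁻¹ := by group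
    _ = q * y * (r * s * r⁻¹) * q⁻¹ := by rw [← h7]; group
    _ = q * y * s⁻¹ * q⁻¹ := by rw [h6]
    _ = q * y * q⁻¹ * (q * s⁻¹) * q⁻¹ := by group
    _ = y⁻¹ * (s⁻¹ * q) * q⁻¹ := by rw [h3, h8]
    _ = y⁻¹ * s⁻¹ := by group
    _ = s⁻¹ * y⁻¹ := h9
    _ = (y * s)⁻¹ := by group

/-! ### T1 -/

theorem i4_of_prd {x y g u v : Fi23} (hu : u * u = 1) (hx : u * x * u⁻¹ = x⁻¹) (hv : v * v = 1)
    (hy : v * y * v⁻¹ = y⁻¹) (h : Prd x y g) : I4 g := by
  obtain ⟨a, b, rfl⟩ := h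
  have hu' : u⁻¹ = u := inv_eq_of_mul_eq_one_left hu
  have hv' : v⁻¹ = v := inv_eq_of_mul_eq_one_left hv
  have key : ∀ a w : Fi23, w * w = 1 → (a * w * a⁻¹) * (a * w * a⁻¹) = 1 := by
    intro a w hw
    calc (a * w * a⁻¹) * (a * w * a⁻¹) = a * (w * w) * a⁻¹ := by group
      _ = 1 := by rw [hw]; group
  have hux : u * x * (u * x) = 1 := by
    calc u * x * (u * x) = (u * x * u) * x := by group
      _ = (u * x * u⁻¹) * x := by rw [hu']
      _ = 1 := by rw [hx, inv_mul_cancel]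
  have hvy : v * y * (v * y) = 1 := by
    calc v * y * (v * y) = (v * y * v) * y := by group
      _ = (v * y * v⁻¹) * y := by rw [hv']
      _ = 1 := by rw [hy, inv_mul_cancel]
  refine ⟨a * u * a⁻¹, a * (u * x) * a⁻¹, b * v * b⁻¹, b * (v * y) * b⁻¹, key a u hu, key a _ hux, key b v hv,
    key b _ hvy, ?_⟩
  calc a * x * a⁻¹ * (b * y * b⁻¹) = a * (1 * x) * a⁻¹ * (b * (1 * y) * b⁻¹) := by rw [one_mul, one_mul]
    _ = a * ((u * u) * x) * a⁻¹ * (b * ((v * v) * y) * b⁻¹) := by rw [hu, hv]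
    _ = _ := by group

theorem prd_le {g : Fi23} (hc : Nat.card (centralizer ({g} : Set Fi23)) ≤ 152121389) : Prd (elw y17) y28 g := by
  classical
  have := H713.Spor.Fi23.finite_fi23
  have : Finite (IrrCharacter Fi23) := finite_irr
  have := Fintype.ofFinite (IrrCharacter Fi23)
  refine prd_of_sieve (d := (49335 : ℝ)) (by norm_num) ?_ ?_
  · intro χ h1 h2 h3
    have h4 := deg_ge χ h1 h2 h3
    rw [cast_deg, Complex.norm_natCast]
    exact_mod_cast h4
  · have hsum : ∑ χ : IrrCharacter Fi23, (‖(χ : Fi23 → ℂ) (elw y17)‖ * ‖(χ : Fi23 → ℂ) y28‖) ^ 2 ≤ 17 := by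
      have h := H686.CharKit.sum_normSq (G := Fi23) (elw y17)
      simp only [Complex.normSq_eq_norm_sq] at h
      rw [card17] at h
      have h' : ∑ χ : IrrCharacter Fi23, ‖(χ : Fi23 → ℂ) (elw y17)‖ ^ 2 = 17 := by
        rw [h]; norm_num
      rw [← h']
      refine Finset.sum_le_sum fun χ _ => ?_
      have hle : ‖(χ : Fi23 → ℂ) y28‖ ≤ 1 := by
        obtain ⟨c, i, hc, h4, -⟩ := vals28 χ
        rw [h4, Complex.norm_intCast]
        have : |c * v4 i| ≤ 1 := by
          rcases hc with rfl | rfl | rfl <;> fin_cases i <;> decide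
        exact_mod_cast this
      have h0 : 0 ≤ ‖(χ : Fi23 → ℂ) (elw y17)‖ := norm_nonneg _
      have h0' : 0 ≤ ‖(χ : Fi23 → ℂ) y28‖ := norm_nonneg _
      apply pow_le_pow_left₀ (by positivity)
      exact mul_le_of_le_one_right h0 hle
    have hc1 : (1 : ℝ) ≤ (Nat.card (centralizer ({g} : Set Fi23)) : ℝ) := by
      have : 1 ≤ Nat.card (centralizer ({g} : Set Fi23)) := Nat.card_pos
      exact_mod_cast this
    have hc2 : (Nat.card (centralizer ({g} : Set Fi23)) : ℝ) ≤ 152121389 := by exact_mod_cast hc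
    calc _ ≤ (17 - 1 : ℝ) * ((Nat.card (centralizer ({g} : Set Fi23)) : ℝ) - 1) := by
          apply mul_le_mul_of_nonneg_right _ (by linarith)
          linarith
      _ ≤ (17 - 1 : ℝ) * (152121389 - 1) := by
          apply mul_le_mul_of_nonneg_left _ (by norm_num)
          linarith
      _ < 49335 ^ 2 := by norm_num

/-- **T1 for four involutions** -/
theorem t1I {g : Fi23} (hc : Nat.card (centralizer ({g} : Set Fi23)) ≤ 152121389) : I4 g :=
  i4_of_prd u17_sq u17_conj u28_sq u28_conj (prd_le hc)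

end Cfsg.Agent.H856.F23
end

-- part: H856/F23/RowOf
section
/-!
# Row `Fi₂₃` of S4171 (products of four involutions), given the bounds for 2A and 2C (helper856)
-/

set_option autoImplicit false

namespace Cfsg.Agent.H856.F23

open Cfsg Subgroup
open Cfsg.Agent.KFacts.FiTTh.BasFi (e)
open Cfsg.Agent.H777.Ore Cfsg.Agent.H822.Ore.Fi23Row
open Cfsg.Agent.Fischer.Fi23Z (z0)
open Cfsg.Spor (Fi23)

theorem inv4_of (hA : Bd z0) {r r' r'' : ZMod 23} (h1 : r ≠ r') (h2 : r ≠ r'') (h3 : r' ≠ r'')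
    (hC : Bd (e (some r) * e (some r') * e (some r''))) : Inv4 Fi23 :=
  H822.Ore.Fi23Asm.all_four hA h1 h2 h3 hC fun _ hg => t1I (hg.trans (by norm_num))

/-- products of four involutions in every group isomorphic to `Fi₂₃`, given the two bounds -/
theorem four_Fi23_of (hA : Bd z0) {r r' r'' : ZMod 23} (h1 : r ≠ r') (h2 : r ≠ r'') (h3 : r' ≠ r'')
    (hC : Bd (e (some r) * e (some r') * e (some r''))) {S : Type*} [Group S] (h : Spor.IsoFi23 S) : Inv4 S := by
  obtain ⟨f⟩ := h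
  intro g
  obtain ⟨a, b, c, d, ha, hb, hc, hd, hg⟩ := inv4_of hA h1 h2 h3 hC (f g)
  refine ⟨f.symm a, f.symm b, f.symm c, f.symm d, ?_, ?_, ?_, ?_, ?_⟩
  · rw [← map_mul, ha, map_one]
  · rw [← map_mul, hb, map_one]
  · rw [← map_mul, hc, map_one]
  · rw [← map_mul, hd, map_one]
  · rw [← map_mul, ← map_mul, ← map_mul, ← hg, MulEquiv.symm_apply_apply]

end Cfsg.Agent.H856.F23
end

-- part: H856/F23/Row
section
/-!
# Row `Fi₂₃` of S4171: every element is a product of four involutions (helper856)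

Bounds for 2A: helper868, for 2B and 2C: helper692; odd elements: helper29; 2-elements and frame: helper822.
-/

set_option autoImplicit false

namespace Cfsg.Agent.H856.F23

open Cfsg Subgroup
open Cfsg.Agent.H777.Ore Cfsg.Agent.H822.Ore.Fi23Row

/-- **products of four involutions in `Fi₂₃`** -/
theorem four_Fi23 {S : Type*} [Group S] (h : Spor.IsoFi23 S) : Inv4 S :=
  four_Fi23_of (r := 0) (r' := 1) (r'' := 2) H868.Ore.Fi23A.bd_z0 (by decide) (by decide) (by decide)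
    (fun _ hs hc => H692.Ore.Fi23C.two_c (by norm_num) H868.Ore.Fi23A.bd_z0
      (H692.Ore.Fi23C.isConj_W3 (by decide) (by decide) (by decide)) hs hc) h

end Cfsg.Agent.H856.F23
end
end

-- part: H854/Ore/Fi24Rows
section
prune_inst 0x10000000
set_option linter.all false
open scoped Cfsg.Agent.FastGrp

-- part: H854/Ore/Fi24PwThree
section
/-!
# S2465, row `Fi24'` modulo `Wd 4` (helper854)
-/

set_option autoImplicit false

open Cfsg

namespace Cfsg.Agent.H854.Ore.Fi24Pw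

open Cfsg.Agent.H78.Pw Cfsg.Agent.H48.OreFi.Nine

theorem pw_of_four (h4 : Wd 4) {S : Type*} [Group S] (h : Spor.IsoFi24' S) : Pw S :=
  pw_fin H293.PwF.six_model H48.OreFi.WOne.wd_one H597.OreFi.NineB.wd_two h4 h

end Cfsg.Agent.H854.Ore.Fi24Pw
end

-- part: H49/Four/Fi24Frame
section
/-!
# `Fi24'`: products of four involutions, the frame (helper49, for S4171)

* `i4_of_cent` : the sieve with an element of order 29 inverted by an involution: `|C(g)| ≤ 78382080`;
* `inv4_of` : the row from its inputs.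
-/

set_option autoImplicit false
set_option maxRecDepth 100000

namespace Cfsg.Agent.H49.Four.FrF

open Cfsg Subgroup Cfsg.Agent.Characters
open Cfsg.Agent.H777.Ore Cfsg.Agent.H854.Ore

/-- **the sieve at 29** -/
theorem i4_of_cent
    (hDN : ∀ χ : IrrCharacter Spor.Fi24', (χ : Spor.Fi24' → ℂ) ≠ 1 →
      (charDegree (χ : Spor.Fi24' → ℂ) % 29 = 1 ∨ charDegree (χ : Spor.Fi24' → ℂ) % 29 = 28) →
        57477 ≤ charDegree (χ : Spor.Fi24' → ℂ))
    (hDX : ∀ χ : IrrCharacter Spor.Fi24', (χ : Spor.Fi24' → ℂ) ≠ 1 →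
      (charDegree (χ : Spor.Fi24' → ℂ) % 29 = 14 ∨ charDegree (χ : Spor.Fi24' → ℂ) % 29 = 15) →
        113000 ≤ charDegree (χ : Spor.Fi24' → ℂ))
    {g : Spor.Fi24'} (hc : Nat.card (centralizer ({g} : Set Spor.Fi24')) ≤ 78382080) : I4 g := by
  have := H48.OreFi.finite'
  have : IsSimpleGroup Spor.Fi24' := Cfsg.Agent.S1698.result.1
  obtain ⟨x, t, hx, hC, ht, -, htx⟩ := Cfsg.Agent.H30.IMFi24.exists_x
  have hG : ¬ IsMulCommutative Spor.Fi24' := by
    intro h
    have h1 : centralizer ({x} : Set Spor.Fi24') = ⊤ := by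
      rw [eq_top_iff]
      intro y _
      rw [mem_centralizer_singleton_iff]
      exact h.is_comm.comm y x
    rw [h1, Subgroup.card_top, Cfsg.Agent.R08.FiTwentyFour.card_commutator] at hC
    omega
  have hp := H65.Ore.prd_all (p := 29) hG (by norm_num) Cfsg.Agent.R08.FiTwentyFour.card_commutator hx hC 14 2 141
    (by decide +kernel) (DN := 57477) (DX := 113000) hDN hDX (by norm_num) (by norm_num) (y := x) hx hc
  have hs : SR x := ⟨t, ht, htx⟩
  obtain ⟨a, b, hab⟩ := hp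
  obtain ⟨u, v, hu, hv, e1⟩ := hs.two a
  obtain ⟨u', v', hu', hv', e2⟩ := hs.two b
  exact ⟨u, v, u', v', hu, hv, hu', hv', by rw [hab, e1, e2]; group⟩

theorem i4_three {s : Spor.Fi24'} (hs : s ^ 3 = 1) : I4 s := by
  obtain ⟨j, h1, h2⟩ := ThreeInv.three_inv hs
  have hji : j⁻¹ = j := inv_eq_of_mul_eq_one_left h1
  rw [hji] at h2
  refine ⟨s * j, j, 1, 1, ?_, h1, mul_one _, mul_one _, ?_⟩
  · calc s * j * (s * j) = s * (j * s * j) := by group
      _ = 1 := by rw [h2, mul_inv_cancel]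
  · rw [mul_one, mul_one, mul_assoc, h1, mul_one]

end Cfsg.Agent.H49.Four.FrF
end

-- part: H854/Ore/Fi24FourFin
section
/-!
# `Fi24'`, row of S4171 modulo `Wd 4` (helper854)
-/

set_option autoImplicit false
set_option maxRecDepth 100000

open Cfsg Subgroup

namespace Cfsg.Agent.H854.Ore.Fi24Pw

open Cfsg.Agent Cfsg.Agent.Characters
open Cfsg.Agent.H777.Ore Cfsg.Agent.H854.Ore
open Cfsg.Agent.R08.FiTwentyFour (L facts mem_commutator_iff)
open Cfsg.Agent.H48.OreFi.Nine (Wd)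
open Cfsg.Spor (Fi24)

theorem I4.map {G H : Type*} [Group G] [Group H] (f : G →* H) {g : G} (h : I4 g) : I4 (f g) := by
  obtain ⟨a, b, c, d, ha, hb, hc, hd, hg⟩ := h
  exact ⟨f a, f b, f c, f d, by rw [← map_mul, ha, map_one], by rw [← map_mul, hb, map_one],
    by rw [← map_mul, hc, map_one], by rw [← map_mul, hd, map_one], by rw [← map_mul, ← map_mul, ← map_mul, ← hg]⟩

/-- elements commuting with a transposition -/
theorem i4_of_fix (h23 : ∀ x : Spor.Fi23, I4 x) {g : Spor.Fi24'} {d : Fi24} (hd : d ∈ L) (hg : Commute (g : Fi24) d) :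
    I4 g := by
  obtain ⟨c, rfl⟩ := isConj_iff.1 (show IsConj (Cfsg.Agent.Fischer.Fi24Class.gen .l) d from hd)
  have h1 : (c⁻¹ * (g : Fi24) * c) * Cfsg.Agent.Fischer.Fi24Class.gen .l =
      Cfsg.Agent.Fischer.Fi24Class.gen .l * (c⁻¹ * (g : Fi24) * c) := by
    calc (c⁻¹ * (g : Fi24) * c) * Cfsg.Agent.Fischer.Fi24Class.gen .l
        = c⁻¹ * ((g : Fi24) * (c * Cfsg.Agent.Fischer.Fi24Class.gen .l * c⁻¹)) * c := by group
      _ = c⁻¹ * ((c * Cfsg.Agent.Fischer.Fi24Class.gen .l * c⁻¹) * (g : Fi24)) * c := by rw [hg.eq]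
      _ = Cfsg.Agent.Fischer.Fi24Class.gen .l * (c⁻¹ * (g : Fi24) * c) := by group
  have h2 : Cfsg.Agent.Fischer.Fi24Final.sgn (c⁻¹ * (g : Fi24) * c) = 1 := by
    rw [map_mul, map_mul, map_inv, mem_commutator_iff.1 g.2, mul_one, inv_mul_cancel]
  obtain ⟨k, hk⟩ := (facts.mem_range_iff _).2 ⟨h1, h2⟩
  have hn : ∀ x : Spor.Fi23, c * facts.phi x * c⁻¹ ∈ commutator Fi24 := by
    intro x
    rw [mem_commutator_iff, map_mul, map_mul, map_inv, facts.sgn_phi, mul_one, mul_inv_cancel]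
  let f : Spor.Fi23 →* Spor.Fi24' :=
    { toFun := fun x => ⟨c * facts.phi x * c⁻¹, hn x⟩
      map_one' := Subtype.ext (by
        show c * facts.phi 1 * c⁻¹ = 1
        rw [map_one]; group)
      map_mul' := fun x y => Subtype.ext (by
        show c * facts.phi (x * y) * c⁻¹ = c * facts.phi x * c⁻¹ * (c * facts.phi y * c⁻¹)
        rw [map_mul]; group) }
  have hf : f k = g := Subtype.ext (by
    show c * facts.phi k * c⁻¹ = (g : Fi24)
    rw [hk]; group)
  rw [← hf]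
  exact I4.map f (h23 k)

/-- `|C(g)| ≤ 78382080` -/
theorem i4_cent {g : Spor.Fi24'} (hc : Nat.card (centralizer ({g} : Set Spor.Fi24')) ≤ 78382080) : I4 g :=
  H49.Four.FrF.i4_of_cent Cfsg.Agent.H26.Ore.Fi24Deg.hDN
    (fun χ h1 h2 => le_trans (by norm_num) (Cfsg.Agent.H26.Ore.Fi24Deg.hDX χ h1 h2)) hc

theorem four_model (h4 : Wd 4) (g : Spor.Fi24') : I4 g := by
  refine H48.OreFi.cases' (P := I4) (fun g hg => i4_cent hg) (fun g n hg => H854.Ore.Fi24.two_four hg)
    (fun g hg => H49.Four.FrF.i4_three hg) ?_ (H48.OreFi.bound_zs H48.OreFi.bdA) g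
  intro g b hb hg
  by_cases hD : ∃ d ∈ L, Commute (g : Fi24) d
  · obtain ⟨d, hd, hc⟩ := hD
    exact i4_of_fix (fun x => H856.F23.four_Fi23 ⟨MulEquiv.refl _⟩ x) hd hc
  · push Not at hD
    exact i4_cent (nine_bound H48.OreFi.WOne.wd_one H597.OreFi.NineB.wd_two h4 g b hb hg hD)

/-- **row `Fi24'` of S4171** -/
theorem four_of (h4 : Wd 4) {S : Type*} [Group S] (h : Spor.IsoFi24' S) : Inv4 S := by
  obtain ⟨e⟩ := h
  intro g
  have := I4.map e.symm.toMonoidHom (four_model h4 (e g))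
  simpa using this

end Cfsg.Agent.H854.Ore.Fi24Pw
end

-- part: H854/Ore/J4Pw
section
/-!
# Rows `J4` of S2465 and S2453 in the shape of their interfaces (helper854)

`pw` : `J4` satisfies `Pw` of helper78; `sq` : `J4` satisfies `AllP 2` of helper134.
-/

set_option autoImplicit false

open Cfsg

namespace Cfsg.Agent.H854.Ore.J4Pw

open Cfsg.Agent.H78.Pw Cfsg.Agent.H854.Ore

theorem pr_of {G : Type*} [Group G] {x y g : G} {q n : ℕ} (h : g = x * y) (hx : x ^ q = 1) (hy : y ^ q = 1)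
    (hq : Nat.Coprime q n) : Pr n g :=
  ⟨x, y, h, Nat.Coprime.of_dvd_left (orderOf_dvd_of_pow_eq_one hx) hq,
    Nat.Coprime.of_dvd_left (orderOf_dvd_of_pow_eq_one hy) hq⟩

theorem pwJ : Pw Cfsg.Spor.J4 := by
  constructor
  · intro g
    obtain ⟨x, y, h, ⟨hx, hy⟩ | ⟨hx, hy⟩⟩ := prod_J g
    · exact pr_of h hx hy (by norm_num)
    · exact pr_of h hx hy (by norm_num)
  · intro p hp h5 g
    by_cases h : p = 23 ∨ p = 43
    · by_cases hd : p ∣ orderOf g
      · obtain ⟨x, y, hx, hy, hg⟩ := prod_37 h hd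
        exact pr_of hg hx hy (by rcases h with rfl | rfl <;> norm_num)
      · exact Pr.of_coprime ((Nat.Prime.coprime_iff_not_dvd hp).2 hd).symm
    · push Not at h
      obtain ⟨x, y, hg, ⟨hx, hy⟩ | ⟨hx, hy⟩⟩ := prod_J g
      · exact pr_of hg hx hy ((Nat.coprime_primes (by norm_num) hp).2 (Ne.symm h.2))
      · exact pr_of hg hx hy ((Nat.coprime_primes (by norm_num) hp).2 (Ne.symm h.1))

/-- **row `J4` of S2465** -/
theorem pw {S : Type*} [Group S] (h : Spor.IsoJ4 S) : Pw S := by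
  obtain ⟨e⟩ := h
  exact pwJ.congr e.symm

/-- **row `J4` of S2453** -/
theorem sq {S : Type*} [Group S] (h : Spor.IsoJ4 S) : Cfsg.Agent.H134.Sq.AllP 2 S := sq_J4 h

end Cfsg.Agent.H854.Ore.J4Pw
end

-- part: H854/Ore/Fi24Rows
section
/-!
# `Fi24'`, rows of S2465, S2453 and S4171, final form (helper854)
-/

set_option autoImplicit false

open Cfsg

namespace Cfsg.Agent.H854.Ore.Fi24Pw

open Cfsg.Agent.H78.Pw Cfsg.Agent.H777.Ore Cfsg.Agent.H854.Ore

/-- **row `Fi24'` of S2465** -/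
theorem pw_fi24 {S : Type*} [Group S] (h : Spor.IsoFi24' S) : Pw S := pw_of_four H48.WFour.wd_four h

/-- **row `Fi24'` of S2453** -/
theorem sq_fi24 {S : Type*} [Group S] (h : Spor.IsoFi24' S) : Cfsg.Agent.H134.Sq.AllP 2 S := by
  intro g
  exact (pw_fi24 h).pow (Or.inl Nat.prime_two.isPrimePow) g

/-- **row `Fi24'` of S4171** -/
theorem four_fi24 {S : Type*} [Group S] (h : Spor.IsoFi24' S) : Inv4 S := four_of H48.WFour.wd_four h

end Cfsg.Agent.H854.Ore.Fi24Pw
end
end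
end
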